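import Cfsg.Agent.Small.AltSeven.Chain
import Cfsg.Agent.Known.AltPres.Pairs
import Mathlib.GroupTheory.SpecificGroups.Alternating.Simple

/-!
Four elements satisfying the relations of Carmichael, and the resulting subgroup of order 360.
-/

set_option autoImplicit false
set_option linter.unusedSectionVars false
set_option linter.style.haveILetI false

namespace Cfsg.Lib.AltSeven

open Subgroup Cfsg.Lib.Small Cfsg.Lib.AltPres

variable {G : Type*} [Group G] [Finite G] [IsSimpleGroup G]

omit [Finite G] [IsSimpleGroup G] in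
/-- Four Carmichael generators give the four chain generators. -/
theorem exists_rel (a : Fin 4 → G) (h3 : ∀ i, a i * a i * a i = 1) (hp : ∀ i j, i ≠ j → Pair (a i) (a j)) :
    ∃ g : ℕ → G, g 0 = a 0 ∧ Cfsg.Lib.Presentations.Carmichael.Rel g 4 := by
  let g : ℕ → G := fun i => if i = 0 then a 0 else if i = 1 then dd (a 0) (a 1) else
    if i = 2 then dd (a 1) (a 2) else dd (a 2) (a 3)
  have P := hp
  refine ⟨g, rfl, ⟨fun _ => ?_, fun i h1 h2 => ?_, fun i h1 => ?_, fun i j h1 h2 => ?_⟩⟩
  · show g 0 ^ 3 = 1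
    rw [pow_succ, pow_two]; exact h3 0
  · interval_cases i
    · exact (P 0 1 (by decide)).dd_sq
    · exact (P 1 2 (by decide)).dd_sq
    · exact (P 2 3 (by decide)).dd_sq
  · have hi : i < 3 := by omega
    rw [pow_succ, pow_two]
    interval_cases i
    · show a 0 * dd (a 0) (a 1) * (a 0 * dd (a 0) (a 1)) * (a 0 * dd (a 0) (a 1)) = 1
      rw [show a 0 * dd (a 0) (a 1) = a 1 * (a 0)⁻¹ by rw [dd]; group]
      exact cube_div (P 0 1 (by decide))
    · exact braid_cube (P 0 2 (by decide)) (P 0 1 (by decide)) (P 1 2 (by decide))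
    · exact braid_cube (P 1 3 (by decide)) (P 1 2 (by decide)) (P 2 3 (by decide))
  · have hj : j = 2 ∨ j = 3 := by omega
    rcases hj with rfl | rfl
    · obtain rfl : i = 0 := by omega
      exact mid_invert (P 0 1 (by decide)) (P 0 2 (by decide)) (P 1 2 (by decide))
    · have : i < 2 := by omega
      interval_cases i
      · exact mid_invert (P 0 2 (by decide)) (P 0 3 (by decide)) (P 2 3 (by decide))
      · exact far_sq (P 0 1 (by decide)) (P 0 2 (by decide)) (P 1 2 (by decide)) (P 1 3 (by decide))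
          (P 0 3 (by decide)) (P 2 3 (by decide))

/-- A homomorphism from the alternating group of degree six. -/
theorem exists_subgroup_of_rel (g : ℕ → G) (hr : Cfsg.Lib.Presentations.Carmichael.Rel g 4) (h0 : g 0 ≠ 1) :
    ∃ H : Subgroup G, Nat.card H = 360 := by
  have key : ∀ {R : Set (FreeGroup (Fin 4))}, Nonempty (PresentedGroup R ≃* alternatingGroup (Fin 6)) →
      (∀ r ∈ R, FreeGroup.lift (fun i : Fin 4 => g i.val) r = 1) → ∃ H : Subgroup G, Nat.card H = 360 := by
    intro R hiso hR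
    obtain ⟨iso⟩ := hiso
    let φ := (PresentedGroup.toGroup hR).comp iso.symm.toMonoidHom
    haveI : IsSimpleGroup (alternatingGroup (Fin 6)) := alternatingGroup.isSimpleGroup (by simp)
    have hinj : Function.Injective φ := by
      rw [← MonoidHom.ker_eq_bot_iff]
      rcases φ.normal_ker.eq_bot_or_eq_top with e | e
      · exact e
      · refine absurd ?_ h0
        have h1 : φ (iso (PresentedGroup.of (0 : Fin 4))) = 1 := MonoidHom.mem_ker.1 (e ▸ mem_top _)
        simpa [φ, PresentedGroup.toGroup.of] using h1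
    refine ⟨φ.range, ?_⟩
    rw [← Nat.card_congr (MonoidHom.ofInjective hinj).toEquiv]
    haveI : Nontrivial (Fin 6) := Fin.nontrivial_iff_two_le.mpr (by norm_num)
    rw [nat_card_alternatingGroup, Nat.card_fin]
    decide +kernel
  refine key (Cfsg.Lib.Presentations.Carmichael.presentation 6 (by norm_num)) ?_
  intro r hrR
  rcases hrR with ((⟨i, hi, rfl⟩ | ⟨i, hi, rfl⟩) | ⟨i, j, hj, rfl⟩) | ⟨i, j, hj, rfl⟩ <;>
    simp only [map_pow, map_mul, FreeGroup.lift_apply_of]
  · rw [show (i : ℕ) = 0 from hi]; exact hr.cube (by norm_num)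
  · rw [pow_two]; exact hr.sq _ hi i.isLt
  · rw [hj]; exact hr.braid _ (by have := j.isLt; omega)
  · rw [pow_two]; exact hr.far _ _ hj j.isLt

namespace Hyp

theorem ne_of_sylow (h : Hyp G) [Fact (Nat.Prime 3)] {a b : G} (ha : IsE a) (hb : IsE b) (hab : Commute a b) :
    ∃ P : Sylow 3 G, a ∈ (P : Subgroup G) ∧ b ∈ (P : Subgroup G) := by
  set C := centralizer ({a} : Set G) with hC
  have hbC : b ∈ C := mem_centralizer_singleton_iff.2 hab.eq.symm
  obtain ⟨S, hS⟩ := (IsPGroup.of_card (G := zpowers (⟨b, hbC⟩ : C)) (n := 1)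
    (by rw [Nat.card_zpowers, Subgroup.orderOf_mk, hb.1]; norm_num)).exists_le_sylow (p := 3)
  obtain ⟨P, hP⟩ := (S.2.map C.subtype).exists_le_sylow
  have hS9 : Nat.card (S : Subgroup C) = 9 :=
    card_sylow_of_factor (a := 2) (m := 4) S (by rw [h.card_centralizer_line ha]; norm_num) (by norm_num)
  have hPeq : (S : Subgroup C).map C.subtype = (P : Subgroup G) := Subgroup.eq_of_le_of_card_ge hP
    (by rw [Subgroup.card_map_of_injective C.subtype_injective, hS9, h.card_sylow_three P])
  refine ⟨P, ?_, hP ⟨_, hS (mem_zpowers _), rfl⟩⟩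
  refine mem_sylow_of_orderOf P ha.1 (centralizer_le_normalizer _ (mem_centralizer_iff.2 fun x hx => ?_))
  rw [SetLike.mem_coe, ← hPeq] at hx
  obtain ⟨z, -, rfl⟩ := hx
  exact mem_centralizer_singleton_iff.1 z.2

theorem exists_sylow_conj (h : Hyp G) [Fact (Nat.Prime 3)] {g : G} (hg : IsE g) (P Q : Sylow 3 G)
    (hP : g ∈ (P : Subgroup G)) (hQ : g ∈ (Q : Subgroup G)) :
    ∃ w ∈ centralizer ({g} : Set G), w • P = Q :=
  Cfsg.Lib.Transfer.exists_conj_mem_of_sylow_le _ P Q (h.sylow_le_centralizer P hP) (h.sylow_le_centralizer Q hQ)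

/-- Four elements of order three with involutory products. -/
theorem exists_subgroup_card (h : Hyp G) : ∃ H : Subgroup G, Nat.card H = 360 := by
  classical
  haveI : Fact (Nat.Prime 3) := ⟨Nat.prime_three⟩
  haveI : Fact (Nat.Prime 2) := ⟨Nat.prime_two⟩
  obtain ⟨e, g, x, k, he, hg, hx, hk, heg, hgx, hxk, hfar⟩ := h.exists_chain
  have heg' : zpowers g ≠ zpowers e := fun e1 =>
    hfar x hx (commute_of_zpowers_eq e1.symm hgx.symm).symm hxk
  have hgx' : zpowers x ≠ zpowers g := fun e1 => hfar g hg heg (commute_of_zpowers_eq e1.symm hxk.symm).symm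
  have hxk' : zpowers k ≠ zpowers x := fun e1 => hfar g hg heg (commute_of_zpowers_eq e1 hgx)
  have hex : ¬ Commute e x := fun h1 => hfar x hx h1 hxk
  set Ne := normalizer (zpowers e : Set G) with hNe
  set Nk := normalizer (zpowers k : Set G) with hNk
  set Ce := centralizer ({e} : Set G) with hCe
  set S1 := Ne ⊓ Nk with hS1
  have h3S1 : ¬ 3 ∣ Nat.card S1 := by
    intro hd
    obtain ⟨f, hf⟩ := exists_prime_orderOf_dvd_card' (G := S1) 3 hd
    have hf3 : orderOf (f : G) = 3 := by rw [Subgroup.orderOf_coe]; exact hf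
    have hc : ∀ a : G, IsE a → (f : G) ∈ normalizer (zpowers a : Set G) → Commute a (f : G) := fun a ha hfa =>
      mem_centralizer_iff.1 (mem_centralizer_of_coprime (p := 3) (P := zpowers a)
        (by rw [Nat.card_zpowers, ha.1]) hfa (by rw [hf3]; norm_num)) a (mem_zpowers a)
    have h1 := hc e he f.2.1
    have h2 := hc k hk f.2.2
    obtain ⟨P, hP⟩ := h.exists_sylow_mem hf3
    rcases h.isE_or_centralizer hf3 P hP with hE | hC
    · exact hfar f hE h1 h2.symm
    · have hePm : e ∈ (P : Subgroup G) := hC ▸ mem_centralizer_singleton_iff.2 h1.eq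
      have hkPm : k ∈ (P : Subgroup G) := hC ▸ mem_centralizer_singleton_iff.2 h2.eq
      exact hfar e he rfl (h.sylow_three_comm P hePm hkPm)
  have hS1card : 4 ≤ Nat.card S1 := by
    have h72 : Nat.card Ne = 72 := h.card_normalizer_line he
    have hrel : Nk.relIndex Ne ≤ 35 := by
      have hidx : Nk.index = 35 := by
        have hm := Nk.card_mul_index
        rw [h.card_normalizer_line hk, h.card] at hm
        omega
      rw [← hidx, ← relIndex_top_right]
      exact Subgroup.relIndex_le_of_le_right le_top (by rw [relIndex_top_right, hidx]; norm_num)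
    have hmul : Nat.card S1 * Nk.relIndex Ne = 72 := by
      rw [← h72, ← Subgroup.inf_relIndex_left, ← Subgroup.card_mul_index (S1.subgroupOf Ne),
        Nat.card_congr (subgroupOfEquivOfLe (inf_le_left : S1 ≤ Ne)).toEquiv]
      rfl
    by_contra hlt
    rcases (show Nat.card S1 = 0 ∨ Nat.card S1 = 1 ∨ Nat.card S1 = 2 ∨ Nat.card S1 = 3 by omega)
      with e1 | e1 | e1 | e1 <;> rw [e1] at hmul h3S1 <;> omega
  obtain ⟨v0, hv0⟩ : ∃ v : ↥(Ce ⊓ S1), orderOf v = 2 := by
    refine exists_prime_orderOf_dvd_card' 2 ?_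
    have hd72 : Nat.card S1 ∣ 72 := h.card_normalizer_line he ▸ Subgroup.card_dvd_of_le inf_le_left
    have h8 : Nat.card S1 ∣ 2 ^ 3 :=
      (((Nat.Prime.coprime_iff_not_dvd Nat.prime_three).2 h3S1).symm.pow_right 2).dvd_of_dvd_mul_right
        (show Nat.card S1 ∣ 2 ^ 3 * 3 ^ 2 from hd72)
    obtain ⟨i, hi, hi'⟩ := (Nat.dvd_prime_pow Nat.prime_two).1 h8
    have hrel : Ce.relIndex S1 ∣ 2 := by
      have := relIndex_centralizer_dvd (p := 3) (P := zpowers e) (by rw [Nat.card_zpowers, he.1]) (T := S1) inf_le_left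
      rwa [show centralizer (zpowers e : Set G) = Ce by rw [hCe, zpowers_eq_closure, centralizer_closure]] at this
    have hm : Nat.card ↥(Ce ⊓ S1) * Ce.relIndex S1 = Nat.card S1 := by
      rw [← Subgroup.inf_relIndex_right, ← Subgroup.card_mul_index ((Ce ⊓ S1).subgroupOf S1),
        Nat.card_congr (subgroupOfEquivOfLe (inf_le_right : Ce ⊓ S1 ≤ S1)).toEquiv]
      rfl
    rw [hi'] at hm hS1card
    rcases (Nat.dvd_prime Nat.prime_two).1 hrel with e1 | e1 <;> rw [e1] at hm <;>
      interval_cases i <;> omega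
  set v := (v0 : G) with hvdef
  have hv2 : orderOf v = 2 := by rw [hvdef, Subgroup.orderOf_coe]; exact hv0
  have hve : Commute v e := mem_centralizer_singleton_iff.1 v0.2.1
  have hvk : v ∈ Nk := v0.2.2.2
  have hvnk : v ∉ centralizer ({k} : Set G) := fun h1 => by
    have heq := h.eq_of_centralized hv2 he.1 hk.1 hve.symm.eq (mem_centralizer_singleton_iff.1 h1).symm
    exact hfar e he rfl (commute_of_zpowers_eq heq.symm rfl)
  obtain ⟨V, hVcard, hVC, hVsq, hVconj, hVinv, hVcomm⟩ := h.exists_four_group he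
  have hvV : v ∈ V := hVinv v v0.2.1 hv2
  have hVord : ∀ u ∈ V, u ≠ 1 → orderOf u = 2 := fun u hu hu1 =>
    orderOf_eq_prime (by rw [pow_two]; exact hVsq u hu) hu1
  have hVfree : ∀ u ∈ V, u ≠ 1 → ∀ a : G, IsE a → Commute u a → zpowers a = zpowers e := fun u hu hu1 a ha hua =>
    h.eq_of_centralized (hVord u hu hu1) ha.1 he.1 hua.symm.eq
      (mem_centralizer_singleton_iff.1 (hVC hu)).symm
  have hv1 : v ≠ 1 := ne_one_of_orderOf hv2 (by norm_num)
  have hgv : g * v * g⁻¹ ≠ v := fun e1 =>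
    heg' (hVfree v hvV hv1 g hg (show Commute g v from mul_inv_eq_iff_eq_mul.1 e1).symm)
  have hgC : g ∈ Ce := mem_centralizer_singleton_iff.2 heg.eq.symm
  have hgn : g ∈ normalizer (Ce : Set G) := le_normalizer hgC
  -- v moves x
  have hvx : v ∉ normalizer (zpowers x : Set G) := by
    intro hvn
    have hx' : zpowers (v * x * v⁻¹) = zpowers x := conj_zpowers_eq hvn
    have h1 : Commute (v * g * v⁻¹) x := by
      have := hgx.map (MulAut.conj v).toMonoidHom
      exact commute_of_zpowers_eq hx'.symm this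
    set u := g * v * g⁻¹ * v⁻¹ with hu
    have huV : u ∈ V := hVcomm g hgC v v0.2.1
    have hu1 : u ≠ 1 := fun e1 => hgv (mul_inv_eq_one.1 e1)
    have hux : Commute u x := by
      have : u = g * (v * g * v⁻¹)⁻¹ := by rw [hu]; group
      rw [this]; exact hgx.mul_left h1.inv_left
    exact hex (commute_of_zpowers_eq (hVfree u huV hu1 x hx hux) rfl)
  -- the generator of the line of x
  obtain ⟨Pe, hgPe, hePe⟩ := h.ne_of_sylow hg he heg.symm
  obtain ⟨Px, hgPx, hxPx⟩ := h.ne_of_sylow hg hx hgx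
  obtain ⟨w, hw, hwP⟩ := h.exists_sylow_conj hg Pe Px hgPe hgPx
  set x0 := w * e⁻¹ * w⁻¹ with hx0
  have hx0E : IsE x0 := he.inv.conj w
  have hx0P : x0 ∈ (Px : Subgroup G) := by
    rw [← hwP, Cfsg.Lib.Transfer.sylow_smul_coe]
    exact ⟨e⁻¹, inv_mem hePe, rfl⟩
  have hwg : w * g * w⁻¹ = g := by rw [mem_centralizer_singleton_iff.1 hw, mul_inv_cancel_right]
  have hx0g : zpowers x0 ≠ zpowers g := by
    intro e1
    have e2 := congrArg (Subgroup.map (MulAut.conj w⁻¹).toMonoidHom) e1
    rw [zpowers_conj, zpowers_conj, hx0, show w⁻¹ * (w * e⁻¹ * w⁻¹) * w⁻¹⁻¹ = e⁻¹ by group, zpowers_inv,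
      show w⁻¹ * g * w⁻¹⁻¹ = g by nth_rewrite 1 [← hwg]; group] at e2
    exact heg' e2.symm
  have hx0x : zpowers x0 = zpowers x := h.exists_other_line hg Px hgPx x0 x hx0E hx hx0P hxPx hx0g hgx'
  obtain ⟨Vg, -, -, hVgsq, -, -, hVgcomm⟩ := h.exists_four_group hg
  have heC_g : e ∈ centralizer ({g} : Set G) := mem_centralizer_singleton_iff.2 heg.eq
  have hex0 : e * x0 * (e * x0) = 1 := by
    have h1 := hVgsq _ (hVgcomm e heC_g w hw)
    rw [hx0]
    calc e * (w * e⁻¹ * w⁻¹) * (e * (w * e⁻¹ * w⁻¹)) = e * w * e⁻¹ * w⁻¹ * (e * w * e⁻¹ * w⁻¹) := by group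
      _ = 1 := h1
  -- x0 and its conjugate under v
  have hx0k : Commute x0 k := (commute_of_zpowers_eq hx0x hxk.symm).symm
  obtain ⟨Pk, hkPk, hx0Pk⟩ := h.ne_of_sylow hk hx0E hx0k.symm
  obtain ⟨Vk, -, -, hVksq, hVkconj, -, hVkcomm⟩ := h.exists_four_group hk
  have hk0 := h.conj_mul_mem_four hk hVkconj hVkcomm Pk hkPk hvk hvnk hx0Pk
  set x2 := v * x0 * v⁻¹ with hx2
  have hp02' : x2 * x0 * (x2 * x0) = 1 := hVksq _ hk0
  set g' := g with hg'
  set x3 := g * x2 * g⁻¹ with hx3
  have hcube : ∀ a : G, IsE a → a * a * a = 1 := fun a ha => by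
    rw [← pow_two, ← pow_succ]; exact orderOf_dvd_iff_pow_eq_one.1 (dvd_of_eq ha.1)
  have c0 := hcube e he
  have c1 := hcube x0 hx0E
  have c2 := hcube x2 (hx0E.conj v)
  have c3 := hcube x3 ((hx0E.conj v).conj g)
  have hgx0 : g * x0 * g⁻¹ = x0 := by
    rw [(commute_of_zpowers_eq hx0x hgx).eq, mul_inv_cancel_right]
  have hge : g * e * g⁻¹ = e := by rw [← heg.eq, mul_inv_cancel_right]
  have hve' : v * e * v⁻¹ = e := by rw [hve.eq, mul_inv_cancel_right]
  have p01 : Pair e x0 := ⟨c0, c1, hex0⟩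
  have p02 : Pair e x2 := by have := p01.conj v; rwa [hve'] at this
  have p03 : Pair e x3 := by have := p02.conj g; rwa [hge] at this
  have p12 : Pair x0 x2 := (Pair.mk c2 c1 hp02').symm
  have p13 : Pair x0 x3 := by have := p12.conj g; rwa [hgx0] at this
  -- the third involution of V
  set v' := g * v * g⁻¹ with hv'
  set v'' := g * v' * g⁻¹ with hv''
  have hv'V : v' ∈ V := hVconj g hgn v hvV
  have hv''V : v'' ∈ V := hVconj g hgn v' hv'V
  have hvv : v * v' = v'' := by
    haveI := Fintype.ofFinite V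
    have hne1 : v'' ≠ v' := fun e1 => hgv (by
      rw [hv''] at e1
      have := congrArg (fun z => g⁻¹ * z * g) e1
      simpa [hv', mul_assoc] using this)
    have hne2 : v'' ≠ v := fun e1 => by
      -- then g² centralises v
      have hg3 : g * g * g = 1 := hcube g hg
      have e2 : v' = g * g * g * v * (g * g * g)⁻¹ := by
        calc v' = g * v * g⁻¹ := hv'
          _ = g * v'' * g⁻¹ := by rw [e1]
          _ = _ := by rw [hv'', hv']; group
      rw [hg3] at e2
      exact hgv (by simpa using e2)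
    have hv'1 : v' ≠ 1 := fun e1 => hv1 (conj_eq_one_iff.1 (hv' ▸ e1))
    have hv''1 : v'' ≠ 1 := fun e1 => hv'1 (conj_eq_one_iff.1 (hv'' ▸ e1))
    have hvv'1 : v * v' ≠ 1 := fun e1 => hgv ((inv_eq_of_mul_eq_one_right e1).symm.trans
      (inv_eq_of_mul_eq_one_left (hVsq v hvV)))
    by_contra hne
    have hsub : (({1, v, v', v * v', v''} : Finset G) : Set G) ⊆ (V : Set G) := by
      intro z hz
      simp only [Finset.coe_insert, Finset.coe_singleton, Set.mem_insert_iff, Set.mem_singleton_iff] at hz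
      rcases hz with rfl | rfl | rfl | rfl | rfl
      exacts [one_mem _, hvV, hv'V, mul_mem hvV hv'V, hv''V]
    have h5 := Set.ncard_le_ncard hsub (Set.toFinite _)
    rw [Set.ncard_coe_finset, ← Nat.card_coe_set_eq, show Nat.card (V : Set G) = 4 from hVcard,
      Finset.card_insert_of_notMem, Finset.card_insert_of_notMem, Finset.card_insert_of_notMem,
      Finset.card_pair hne] at h5
    · omega
    · simp only [Finset.mem_insert, Finset.mem_singleton, not_or]
      exact ⟨fun e1 => hv1 (mul_eq_right.1 e1.symm), hne1.symm⟩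
    · simp only [Finset.mem_insert, Finset.mem_singleton, not_or]
      exact ⟨fun e1 => hgv e1.symm, fun e1 => hv'1 (mul_eq_left.1 e1.symm), hne2.symm⟩
    · simp only [Finset.mem_insert, Finset.mem_singleton, not_or]
      exact ⟨hv1.symm, hv'1.symm, hvv'1.symm, hv''1.symm⟩
  have hx3' : x3 = v' * x0 * v'⁻¹ := by
    rw [hx3, hx2, hv']
    calc g * (v * x0 * v⁻¹) * g⁻¹ = g * v * g⁻¹ * (g * x0 * g⁻¹) * (g * v * g⁻¹)⁻¹ := by group
      _ = _ := by rw [hgx0]
  have p23 : Pair x2 x3 := by
    have h1 := (p13.conj g).conj v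
    rw [hgx0] at h1
    have e1 : v * (g * x3 * g⁻¹) * v⁻¹ = x3 := by
      rw [hx3']
      calc v * (g * (v' * x0 * v'⁻¹) * g⁻¹) * v⁻¹ = v * (g * v' * g⁻¹) * (g * x0 * g⁻¹) * (v * (g * v' * g⁻¹))⁻¹ := by group
        _ = v * v'' * x0 * (v * v'')⁻¹ := by rw [hgx0, ← hv'']
        _ = v' * x0 * v'⁻¹ := by rw [show v * v'' = v' by rw [← hvv, ← mul_assoc, hVsq v hvV, one_mul]]
    rwa [e1] at h1
  obtain ⟨gs, hgs0, hrel⟩ := exists_rel ![e, x0, x2, x3] (by intro i; fin_cases i <;> assumption) (by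
    intro i j hij
    fin_cases i <;> fin_cases j <;> first
      | exact absurd rfl hij
      | exact p01 | exact p02 | exact p03 | exact p12 | exact p13 | exact p23
      | exact p01.symm | exact p02.symm | exact p03.symm | exact p12.symm | exact p13.symm | exact p23.symm)
  exact exists_subgroup_of_rel gs hrel (by rw [hgs0]; exact ne_one_of_orderOf he.1 (by norm_num))

/-- The hypothesis is contradictory. -/
theorem false (h : Hyp G) : False := by
  obtain ⟨H, hH⟩ := h.exists_subgroup_card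
  have hne : H ≠ ⊤ := fun e => by rw [e, Subgroup.card_top, h.card] at hH; omega
  have := h.small H hne
  omega

end Hyp

/-- A simple group of order 2520 is the alternating group of degree seven. -/
theorem nonempty_equiv (hcard : Nat.card G = 2520) : Nonempty (G ≃* alternatingGroup (Fin 7)) := by
  rcases hyp_or_index hcard with ⟨H, hH⟩ | h
  · exact alt_of_index hcard H hH
  · exact h.false.elim

end Cfsg.Lib.AltSeven
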