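import Cfsg.Agent.Small.Toolkit
import Cfsg.Agent.Transfer.ThompsonTransfer

/-!
Groups of order 2520 which are simple and have no subgroup of index at most seven: basic facts,
and the lemma that every involution has a centraliser of order divisible by eight.
-/

set_option autoImplicit false
set_option linter.unusedSectionVars false
set_option linter.style.haveILetI false

namespace Cfsg.Lib.AltSeven

open Subgroup Cfsg.Lib.Small

variable {G : Type*} [Group G] [Finite G] [IsSimpleGroup G]

/-- Order 2520, and every proper subgroup has index at least eight. -/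
structure Hyp (G : Type*) [Group G] : Prop where
  card : Nat.card G = 2520
  small : ∀ H : Subgroup G, H ≠ ⊤ → Nat.card H ≤ 315

theorem not_comm_of_card (h : Nat.card G = 2520) : ¬ ∀ a b : G, a * b = b * a :=
  not_comm_of_isSimple (by rw [h]; norm_num)

omit [IsSimpleGroup G] in
theorem dvd_card_of (h : Nat.card G = 2520) (H : Subgroup G) : Nat.card H ∣ 2520 :=
  h ▸ Subgroup.card_subgroup_dvd_card H

/-- A subgroup of index seven gives the isomorphism. -/
theorem alt_of_index (h : Nat.card G = 2520) (H : Subgroup G) (hH : H.index = 7) :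
    Nonempty (G ≃* alternatingGroup (Fin 7)) := by
  have hne : H ≠ ⊤ := fun e => by rw [e, Subgroup.index_top] at hH; omega
  have hex := exists_hom_alternating_index (not_comm_of_card h) H hne
  rw [hH] at hex
  obtain ⟨f, hf⟩ := hex
  refine ⟨MulEquiv.ofBijective f ⟨hf, ?_⟩⟩
  haveI : Nontrivial (Fin 7) := Fin.nontrivial_iff_two_le.mpr (by norm_num)
  refine (hf.bijective_of_nat_card_le ?_).2
  rw [nat_card_alternatingGroup, Nat.card_fin, h]
  decide +kernel

/-- Either there is a subgroup of index seven or all proper subgroups have order at most 315. -/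
theorem hyp_or_index (h : Nat.card G = 2520) : (∃ H : Subgroup G, H.index = 7) ∨ Hyp G := by
  by_cases h7 : ∃ H : Subgroup G, H.index = 7
  · exact Or.inl h7
  refine Or.inr ⟨h, fun H hH => ?_⟩
  have hd := two_mul_card_dvd_index_factorial (not_comm_of_card h) H hH
  rw [h] at hd
  have h8 : 8 ≤ H.index := by
    by_contra hlt
    push Not at hlt
    rcases (show H.index < 7 ∨ H.index = 7 by omega) with h' | h'
    · have key : ∀ i < 7, ¬ 2 * 2520 ∣ i.factorial := by decide +kernel
      exact key _ h' hd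
    · exact h7 ⟨H, h'⟩
  have hm := H.card_mul_index
  rw [h] at hm
  by_contra hlt
  push Not at hlt
  have := Nat.mul_le_mul hlt h8
  omega

namespace Hyp

theorem nc (h : Hyp G) : ¬ ∀ a b : G, a * b = b * a := not_comm_of_card h.card

theorem eq_top (h : Hyp G) {H : Subgroup G} (hH : 315 < Nat.card H) : H = ⊤ := by
  by_contra hne
  exact absurd (h.small H hne) (by omega)

theorem normalizer_ne_top (h : Hyp G) {K : Subgroup G} (hK : K ≠ ⊥) (hK' : Nat.card K < 2520) :
    normalizer (K : Set G) ≠ ⊤ := by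
  intro e
  have hn : K.Normal := normalizer_eq_top_iff.1 e
  rcases hn.eq_bot_or_eq_top with h1 | h1
  · exact hK h1
  · rw [h1, Subgroup.card_top, h.card] at hK'
    omega

theorem card_normalizer_le (h : Hyp G) {K : Subgroup G} (hK : K ≠ ⊥) (hK' : Nat.card K < 2520) :
    Nat.card (normalizer (K : Set G)) ≤ 315 :=
  h.small _ (h.normalizer_ne_top hK hK')

theorem card_centralizer_le (h : Hyp G) {u : G} (hu : u ≠ 1) :
    Nat.card (centralizer ({u} : Set G)) ≤ 315 :=
  h.small _ (centralizer_ne_top h.nc hu)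

theorem card_centralizer_pos (u : G) : 0 < Nat.card (centralizer ({u} : Set G)) := Nat.card_pos

theorem two_dvd (h : Hyp G) : 2 ∣ Nat.card G := by rw [h.card]; norm_num

theorem card_sylow_two (h : Hyp G) (P : Sylow 2 G) : Nat.card (P : Subgroup G) = 8 :=
  card_sylow_of_factor (a := 3) (m := 315) P (by rw [h.card]; norm_num) (by norm_num)

theorem card_sylow_three (h : Hyp G) [Fact (Nat.Prime 3)] (P : Sylow 3 G) : Nat.card (P : Subgroup G) = 9 :=
  card_sylow_of_factor (a := 2) (m := 280) P (by rw [h.card]; norm_num) (by norm_num)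

/-- Thompson transfer: every involution is conjugate into each subgroup of order four. -/
theorem exists_conj_mem (h : Hyp G) {Q : Subgroup G} (hQ : Nat.card Q = 4) {t : G} (ht : orderOf t = 2) :
    ∃ g : G, g⁻¹ * t * g ∈ Q := by
  by_contra hno
  push Not at hno
  have hi : Q.index = 2 * 315 := by
    have hm := Q.card_mul_index
    rw [hQ, h.card] at hm
    omega
  obtain ⟨M, hM, hMi, -⟩ := Cfsg.Lib.Transfer.exists_index_two_not_mem Q (by decide) hi ht hno
  rcases hM.eq_bot_or_eq_top with h1 | h1
  · rw [h1, Subgroup.index_bot, h.card] at hMi; omega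
  · rw [h1, Subgroup.index_top] at hMi; omega

omit [Finite G] [IsSimpleGroup G] in
theorem exists_pow_lt [Finite G] {c z : G} (hz : z ∈ zpowers c) : ∃ i < orderOf c, c ^ i = z := by
  classical
  obtain ⟨i, hi, e⟩ := Finset.mem_image.1 ((isOfFinOrder_of_finite c).mem_zpowers_iff_mem_range_orderOf.1 hz)
  exact ⟨i, Finset.mem_range.1 hi, e⟩

theorem sq_eq_one_of (ht : ∀ x : G, orderOf x ≠ 4) {P : Sylow 2 G} (h : Hyp G) {x : G}
    (hx : x ∈ (P : Subgroup G)) : x * x = 1 := by
  obtain ⟨k, hk⟩ := (IsPGroup.iff_orderOf.1 P.2) ⟨x, hx⟩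
  rw [Subgroup.orderOf_mk] at hk
  rcases Nat.lt_or_ge k 2 with hk2 | hk2
  · rw [← pow_two, ← orderOf_dvd_iff_pow_eq_one, hk]
    calc 2 ^ k ∣ 2 ^ 1 := pow_dvd_pow 2 (by omega)
      _ = 2 := pow_one 2
  · refine absurd ?_ (ht (x ^ 2 ^ (k - 2)))
    rw [orderOf_pow_of_dvd (by positivity) (by rw [hk]; exact pow_dvd_pow 2 (by omega)), hk,
      Nat.pow_div (by omega) (by norm_num), show k - (k - 2) = 2 by omega]

/-- Every involution has a centraliser of order divisible by eight. -/
theorem eight_dvd (h : Hyp G) {t : G} (ht : orderOf t = 2) :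
    8 ∣ Nat.card (centralizer ({t} : Set G)) := by
  have key : ∀ (z g : G) (P : Sylow 2 G), g⁻¹ * t * g = z → (P : Subgroup G) ≤ centralizer ({z} : Set G) →
      8 ∣ Nat.card (centralizer ({t} : Set G)) := by
    intro z g P hz hP
    rw [← h.card_sylow_two P,
      ← Subgroup.card_map_of_injective (K := (P : Subgroup G)) (f := (MulAut.conj g).toMonoidHom) (MulEquiv.injective _)]
    refine Subgroup.card_dvd_of_le ?_
    rintro _ ⟨p, hp, rfl⟩
    have h1 := mem_centralizer_singleton_iff.1 (hP hp)
    refine mem_centralizer_singleton_iff.2 ?_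
    simp only [MulEquiv.coe_toMonoidHom, MulAut.conj_apply]
    subst hz
    calc g * p * g⁻¹ * t = g * (p * (g⁻¹ * t * g)) * g⁻¹ := by group
      _ = g * (g⁻¹ * t * g * p) * g⁻¹ := by rw [h1]
      _ = t * (g * p * g⁻¹) := by group
  by_cases hc : ∃ c : G, orderOf c = 4
  · obtain ⟨c, hc⟩ := hc
    have hC : Nat.card (zpowers c) = 4 := by rw [Nat.card_zpowers, hc]
    have hp : IsPGroup 2 (zpowers c) := IsPGroup.of_card (n := 2) (by rw [hC]; norm_num)
    obtain ⟨P, hP⟩ := hp.exists_le_sylow
    obtain ⟨g, hg⟩ := h.exists_conj_mem hC ht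
    haveI : ((zpowers c).subgroupOf (P : Subgroup G)).Normal := Subgroup.normal_of_index_eq_two (by
      have hm := Subgroup.card_mul_index ((zpowers c).subgroupOf (P : Subgroup G))
      rw [Nat.card_congr (subgroupOfEquivOfLe hP).toEquiv, hC, h.card_sylow_two P] at hm
      omega)
    have hu : ∀ z ∈ zpowers c, orderOf z = 2 → z = c ^ 2 := by
      intro z hz hz2
      obtain ⟨i, hi, rfl⟩ := Cfsg.Lib.AltSeven.Hyp.exists_pow_lt hz
      rw [hc] at hi
      interval_cases i
      · rw [pow_zero, orderOf_one] at hz2; omega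
      · rw [pow_one, hc] at hz2; omega
      · rfl
      · have h3 : orderOf (c ^ 3) = 4 := by rw [orderOf_pow, hc]; rfl
        omega
    have ho : ∀ z : G, orderOf (g⁻¹ * t * g) = 2 := fun _ => by
      rw [← ht]; simpa using orderOf_injective (MulAut.conj g⁻¹).toMonoidHom (MulEquiv.injective _) t
    refine key _ g P rfl fun p hp => mem_centralizer_singleton_iff.2 ?_
    have hz := hu _ hg (ho 1)
    rw [hz]
    have hmem : p * c ^ 2 * p⁻¹ ∈ zpowers c :=
      (‹((zpowers c).subgroupOf (P : Subgroup G)).Normal›.conj_mem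
        ⟨c ^ 2, pow_mem (hP (mem_zpowers c)) 2⟩ (pow_mem (mem_zpowers c) 2) ⟨p, hp⟩ : _)
    have h2 : orderOf (c ^ 2) = 2 := by rw [orderOf_pow, hc]; rfl
    have := hu _ hmem (by
      have h5 := orderOf_injective (MulAut.conj p).toMonoidHom (MulEquiv.injective _) (c ^ 2)
      rw [h2] at h5
      exact h5)
    exact mul_inv_eq_iff_eq_mul.1 this
  · push Not at hc
    obtain ⟨Q, hQ⟩ := Sylow.exists_subgroup_card_pow_prime (G := G) 2 (n := 2) (by rw [h.card]; norm_num)
    obtain ⟨P, hQP⟩ := (IsPGroup.of_card (G := Q) (n := 2) hQ).exists_le_sylow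
    obtain ⟨g, hg⟩ := h.exists_conj_mem (show Nat.card Q = 4 by rw [hQ]; norm_num) ht
    refine key _ g P rfl fun p hp => mem_centralizer_singleton_iff.2 ?_
    have hz := hQP hg
    have h1 := h.sq_eq_one_of hc hp
    have h2 := h.sq_eq_one_of hc hz
    have h3 := h.sq_eq_one_of hc (mul_mem hp hz)
    generalize g⁻¹ * t * g = z at h2 h3 ⊢
    rw [eq_inv_of_mul_eq_one_left h3, mul_inv_rev, inv_eq_of_mul_eq_one_left h1, inv_eq_of_mul_eq_one_left h2]

end Hyp

end Cfsg.Lib.AltSeven
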