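import Cfsg.Agent.Small.AltSeven.Local

/-!
A path of length three in the commuting graph of the lines which cannot be shortened.
-/

set_option autoImplicit false
set_option linter.unusedSectionVars false
set_option linter.style.haveILetI false

namespace Cfsg.Lib.AltSeven

open Subgroup Cfsg.Lib.Small

variable {G : Type*} [Group G] [Finite G] [IsSimpleGroup G]

/-- Lines commuting with `e`, itself included. -/
def nbrs (e : G) : Set (Subgroup G) := {H | ∃ k, IsE k ∧ zpowers k = H ∧ Commute e k}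

/-- Lines at distance at most two from `e`. -/
def ball (e : G) : Set (Subgroup G) :=
  {H | ∃ k, IsE k ∧ zpowers k = H ∧ ∃ f, IsE f ∧ Commute e f ∧ Commute f k}

omit [IsSimpleGroup G] in
theorem commute_of_zpowers_eq {a b x : G} (h : zpowers a = zpowers b) (hb : Commute x b) : Commute x a := by
  obtain ⟨i, hi⟩ := (h ▸ mem_zpowers a : a ∈ zpowers b)
  rw [← hi]
  exact hb.zpow_right i

omit [IsSimpleGroup G] in
theorem ball_congr {a b : G} (h : zpowers a = zpowers b) : ball a = ball b := by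
  ext H
  constructor <;> rintro ⟨k, hk, hH, f, hf, h1, h2⟩ <;> refine ⟨k, hk, hH, f, hf, ?_, h2⟩
  · exact (commute_of_zpowers_eq h.symm h1.symm).symm
  · exact (commute_of_zpowers_eq h h1.symm).symm

omit [IsSimpleGroup G] in
theorem ball_conj_subset (g e : G) :
    (fun H => Subgroup.map (MulAut.conj g).toMonoidHom H) '' ball e ⊆ ball (g * e * g⁻¹) := by
  rintro _ ⟨H, ⟨k, hk, hH, f, hf, h1, h2⟩, rfl⟩
  refine ⟨g * k * g⁻¹, hk.conj g, ?_, g * f * g⁻¹, hf.conj g, ?_, ?_⟩
  · rw [← zpowers_conj, hH]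
  · exact h1.map (MulAut.conj g).toMonoidHom
  · exact h2.map (MulAut.conj g).toMonoidHom

omit [IsSimpleGroup G] in
theorem ball_conj (g e : G) :
    (fun H => Subgroup.map (MulAut.conj g).toMonoidHom H) '' ball e = ball (g * e * g⁻¹) := by
  refine Set.Subset.antisymm (ball_conj_subset g e) fun H hH => ?_
  have h1 := ball_conj_subset g⁻¹ (g * e * g⁻¹) ⟨H, hH, rfl⟩
  rw [show g⁻¹ * (g * e * g⁻¹) * g⁻¹⁻¹ = e by group] at h1
  refine ⟨_, h1, ?_⟩
  ext x
  simp [Subgroup.mem_map, mul_assoc]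

namespace Hyp

theorem ncard_nbrs_le (h : Hyp G) {e : G} (he : IsE e) : (nbrs e).ncard ≤ 5 := by
  classical
  haveI : Fact (Nat.Prime 3) := ⟨Nat.prime_three⟩
  set C := centralizer ({e} : Set G) with hC
  have hS : ∀ H : {H : Subgroup G // H ∈ nbrs e ∧ H ≠ zpowers e}, ∃ S : Sylow 3 C, ∀ x ∈ H.1,
      ∃ hx : x ∈ C, (⟨x, hx⟩ : C) ∈ (S : Subgroup C) := by
    rintro ⟨H, ⟨k, hk, rfl, hek⟩, -⟩
    have hkC : k ∈ C := mem_centralizer_singleton_iff.2 hek.eq.symm
    obtain ⟨S, hS⟩ := (IsPGroup.of_card (G := zpowers (⟨k, hkC⟩ : C)) (n := 1)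
      (by rw [Nat.card_zpowers, Subgroup.orderOf_mk, hk.1]; norm_num)).exists_le_sylow (p := 3)
    refine ⟨S, fun x hx => ?_⟩
    obtain ⟨i, rfl⟩ := hx
    exact ⟨zpow_mem hkC i, hS ⟨i, Subtype.ext (by simp)⟩⟩
  choose S hS using hS
  have hinj : Function.Injective S := by
    rintro ⟨H, ⟨a, ha, haH, hea⟩, haN⟩ ⟨K, ⟨b, hb, hbK, heb⟩, hbN⟩ hab
    obtain ⟨haC, haS⟩ := hS ⟨H, ⟨a, ha, haH, hea⟩, haN⟩ a (haH.le (mem_zpowers a))
    obtain ⟨hbC, hbS⟩ := hS ⟨K, ⟨b, hb, hbK, heb⟩, hbN⟩ b (hbK.le (mem_zpowers b))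
    rw [← hab] at hbS
    set T := S ⟨H, ⟨a, ha, haH, hea⟩, haN⟩
    have hp : IsPGroup 3 ((T : Subgroup C).map C.subtype) := T.2.map _
    obtain ⟨P, hP⟩ := hp.exists_le_sylow
    have hT9 : Nat.card (T : Subgroup C) = 9 :=
      card_sylow_of_factor (a := 2) (m := 4) T (by rw [h.card_centralizer_line he]; norm_num) (by norm_num)
    have hPeq : (T : Subgroup C).map C.subtype = (P : Subgroup G) := Subgroup.eq_of_le_of_card_ge hP
      (by rw [Subgroup.card_map_of_injective C.subtype_injective, hT9, h.card_sylow_three P])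
    have heP : e ∈ (P : Subgroup G) := by
      refine mem_sylow_of_orderOf P he.1 (centralizer_le_normalizer _ (mem_centralizer_iff.2 fun x hx => ?_))
      rw [SetLike.mem_coe, ← hPeq] at hx
      obtain ⟨z, -, rfl⟩ := hx
      exact mem_centralizer_singleton_iff.1 z.2
    have := h.exists_other_line he P heP a b ha hb (hP ⟨_, haS, rfl⟩) (hP ⟨_, hbS, rfl⟩)
      (fun e1 => haN (haH.symm.trans e1)) (fun e1 => hbN (hbK.symm.trans e1))
    exact Subtype.ext (haH.symm.trans (this.trans hbK))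
  have h4 : Nat.card (Sylow 3 C) ≤ 4 := by
    obtain ⟨Q⟩ : Nonempty (Sylow 3 C) := Sylow.nonempty
    exact Nat.le_of_dvd (by norm_num)
      (sylow_facts (a := 2) (m := 4) Q (by rw [h.card_centralizer_line he]; norm_num) (by norm_num)).1
  have h1 : (nbrs e \ {zpowers e}).ncard ≤ 4 :=
    (Nat.card_coe_set_eq _).symm.le.trans ((Nat.card_le_card_of_injective S hinj).trans h4)
  have h2 := Set.ncard_le_ncard_diff_add_ncard (nbrs e) {zpowers e} (Set.toFinite _)
  rw [Set.ncard_singleton] at h2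
  omega

theorem ncard_ball_le (h : Hyp G) {e : G} (he : IsE e) : (ball e).ncard ≤ 25 := by
  classical
  haveI := Fintype.ofFinite (Subgroup G)
  let gen : Subgroup G → G := fun H => if hH : H ∈ nbrs e then hH.choose else e
  let M : Finset (Subgroup G) := Finset.univ.filter fun H => H ∈ nbrs e
  have hsub : ball e ⊆ ↑(M.biUnion fun H => Finset.univ.filter fun K => K ∈ nbrs (gen H)) := by
    rintro K ⟨k, hk, hK, f, hf, h1, h2⟩
    have hH : zpowers f ∈ nbrs e := ⟨f, hf, rfl, h1⟩
    rw [Finset.coe_biUnion, Set.mem_iUnion₂]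
    refine ⟨zpowers f, Finset.mem_filter.2 ⟨Finset.mem_univ _, hH⟩, ?_⟩
    rw [Finset.coe_filter]
    refine ⟨Finset.mem_univ _, k, hk, hK, ?_⟩
    have hgen : zpowers (gen (zpowers f)) = zpowers f := by
      simp only [gen, dif_pos hH]; exact hH.choose_spec.2.1
    exact (commute_of_zpowers_eq hgen h2.symm).symm
  refine (Set.ncard_le_ncard hsub (Finset.finite_toSet _)).trans ?_
  rw [Set.ncard_coe_finset]
  have hM : M.card ≤ 5 := by
    refine le_trans (le_of_eq ?_) (h.ncard_nbrs_le he)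
    rw [← Set.ncard_coe_finset]; simp [M]
  refine (Finset.card_biUnion_le_card_mul _ _ 5 fun H hH => ?_).trans (Nat.mul_le_mul_right 5 hM)
  have hgen : IsE (gen H) := by
    simp only [gen, dif_pos (Finset.mem_filter.1 hH).2]; exact (Finset.mem_filter.1 hH).2.choose_spec.1
  refine le_trans (le_of_eq ?_) (h.ncard_nbrs_le hgen)
  rw [← Set.ncard_coe_finset]; simp

theorem exists_isE (h : Hyp G) : ∃ e : G, IsE e := by
  haveI : Fact (Nat.Prime 3) := ⟨Nat.prime_three⟩
  obtain ⟨c, hc⟩ := h.exists_orderOf_four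
  have hc2 : orderOf (c ^ 2) = 2 := by rw [orderOf_pow, hc]; rfl
  obtain ⟨k, hk⟩ := exists_prime_orderOf_dvd_card' (G := centralizer ({c ^ 2} : Set G)) 3
    (by rw [h.card_centralizer_two hc2]; norm_num)
  exact ⟨k, by rw [Subgroup.orderOf_coe]; exact hk, c ^ 2, hc2, mem_centralizer_singleton_iff.1 k.2⟩

/-- A chain of three commuting pairs whose ends have no common neighbour. -/
theorem exists_chain (h : Hyp G) : ∃ e g x k : G, IsE e ∧ IsE g ∧ IsE x ∧ IsE k ∧
    Commute e g ∧ Commute g x ∧ Commute x k ∧ ∀ f, IsE f → Commute e f → ¬ Commute f k := by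
  classical
  haveI : Fact (Nat.Prime 3) := ⟨Nat.prime_three⟩
  obtain ⟨e, he⟩ := h.exists_isE
  by_contra hno
  push Not at hno
  obtain ⟨P, hP⟩ := h.exists_sylow_mem he.1
  -- another line commuting with e
  obtain ⟨b, hb, heb, hbe⟩ : ∃ b, IsE b ∧ Commute e b ∧ zpowers b ≠ zpowers e := by
    by_contra hall
    push Not at hall
    have hle : normalizer ((P : Subgroup G) : Set G) ≤
        normalizer (zpowers e : Set G) ⊓ normalizer ((P : Subgroup G) : Set G) := fun n hn =>
      ⟨mem_normalizer_zpowers (hall _ (he.conj n)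
        (h.sylow_three_comm P hP (conj_mem_of_normalizer hn hP))), hn⟩
    have := Subgroup.card_le_of_le hle
    rw [((h.centralizer_line_data he).2 P hP).2, h.card_normalizer_three P] at this
    omega
  obtain ⟨g0, hg0⟩ := h.exists_conj_line he hb
  have hclosed : ∀ k x, IsE k → IsE x → zpowers x ∈ ball e → Commute x k → zpowers k ∈ ball e := by
    rintro k x hk hx ⟨x', hx', hxx, g, hg, h1, h2⟩ hxk
    have hx'k : Commute x' k := (commute_of_zpowers_eq hxx hxk.symm).symm
    obtain ⟨f, hf, h3, h4⟩ := hno e g x' k he hg hx' hk h1 h2 hx'k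
    exact ⟨k, hk, rfl, f, hf, h3, h4⟩
  have hsub : ∀ x, IsE x → zpowers x ∈ ball e → ball x ⊆ ball e := by
    rintro x hx hxU K ⟨k, hk, rfl, f, hf, h1, h2⟩
    exact hclosed k f hk hf (hclosed f x hf hx hxU h1) h2
  have hbU : zpowers b ∈ ball e := ⟨b, hb, rfl, e, he, rfl, heb⟩
  let φ : G → Subgroup G → Subgroup G := fun g H => Subgroup.map (MulAut.conj g).toMonoidHom H
  have hφ : ∀ g, Function.Injective (φ g) := fun g => Subgroup.map_injective (MulEquiv.injective _)
  let S : Subgroup G :=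
    { carrier := {g | ball (g * e * g⁻¹) = ball e}
      one_mem' := by show ball (1 * e * 1⁻¹) = ball e; simp
      mul_mem' := fun {g g'} hg hg' => by
        show ball (g * g' * e * (g * g')⁻¹) = ball e
        rw [show g * g' * e * (g * g')⁻¹ = g * (g' * e * g'⁻¹) * g⁻¹ by group, ← ball_conj,
          show ball (g' * e * g'⁻¹) = ball e from hg', ball_conj]
        exact hg
      inv_mem' := fun {g} hg => by
        show ball (g⁻¹ * e * g⁻¹⁻¹) = ball e
        rw [← ball_conj]
        conv_lhs => arg 2; rw [← show ball (g * e * g⁻¹) = ball e from hg]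
        rw [ball_conj, show g⁻¹ * (g * e * g⁻¹) * g⁻¹⁻¹ = e by group] }
  have hg0S : g0 ∈ S := by
    show ball (g0 * e * g0⁻¹) = ball e
    refine Set.eq_of_subset_of_ncard_le (hsub _ (he.conj g0) (hg0 ▸ hbU)) ?_ (Set.toFinite _)
    rw [← ball_conj, Set.ncard_image_of_injective _ (hφ g0)]
  have hNS : normalizer (zpowers e : Set G) ≤ S := fun g hg => ball_congr (conj_zpowers_eq hg)
  have hg0N : g0 ∉ normalizer (zpowers e : Set G) := fun hg => hbe (hg0 ▸ conj_zpowers_eq hg)
  have hS : S = ⊤ := by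
    by_contra hne
    have hle := h.small S hne
    have hd := dvd_card_of h.card S
    obtain ⟨j, hj⟩ := h.card_normalizer_line he ▸ Subgroup.card_dvd_of_le hNS
    rw [hj] at hle hd
    have hj35 : j ∣ 35 := Nat.dvd_of_mul_dvd_mul_left (by norm_num : 0 < 72) (show 72 * j ∣ 72 * 35 from hd)
    have : j ≤ 4 := by omega
    have hj1 : j ≠ 1 := fun e1 => hg0N ((Subgroup.eq_of_le_of_card_ge hNS
      (by rw [hj, e1, h.card_normalizer_line he])).ge hg0S)
    interval_cases j <;> omega
  -- all thirty-five lines lie in the ball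
  set N := normalizer (zpowers e : Set G) with hN
  have hidx : N.index = 35 := by
    have hm := N.card_mul_index
    rw [h.card_normalizer_line he, h.card] at hm
    omega
  let F : G ⧸ N → {H : Subgroup G // H ∈ ball e} := fun q => ⟨zpowers (q.out * e * q.out⁻¹), by
    have hq : ball (q.out * e * q.out⁻¹) = ball e := (show q.out ∈ S by rw [hS]; trivial)
    rw [← hq]
    exact ⟨_, he.conj _, rfl, _, he.conj _, rfl, rfl⟩⟩
  have hF : Function.Injective F := by
    intro q r e1
    have e2 : zpowers (q.out * e * q.out⁻¹) = zpowers (r.out * e * r.out⁻¹) := congrArg Subtype.val e1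
    rw [← QuotientGroup.out_eq' q, ← QuotientGroup.out_eq' r, QuotientGroup.eq]
    refine mem_normalizer_zpowers ?_
    have e3 := congrArg (Subgroup.map (MulAut.conj q.out⁻¹).toMonoidHom) e2
    rw [zpowers_conj, zpowers_conj] at e3
    rw [show q.out⁻¹ * r.out * e * (q.out⁻¹ * r.out)⁻¹ = q.out⁻¹ * (r.out * e * r.out⁻¹) * q.out⁻¹⁻¹ by group, ← e3]
    group
  have h35 := Nat.card_le_card_of_injective F hF
  rw [show Nat.card (G ⧸ N) = 35 from hidx] at h35
  have := h.ncard_ball_le he
  rw [← Nat.card_coe_set_eq] at this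
  have h25 : Nat.card {H : Subgroup G // H ∈ ball e} ≤ 25 := this
  omega

end Hyp

end Cfsg.Lib.AltSeven
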