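import Cfsg.Agent.Small.AltSeven.Tools

/-!
Elements of order five are self-centralising; the case of twenty-one Sylow 5-subgroups.
-/

set_option autoImplicit false
set_option linter.unusedSectionVars false
set_option linter.style.haveILetI false

namespace Cfsg.Lib.AltSeven

open Subgroup Cfsg.Lib.Small

variable {G : Type*} [Group G] [Finite G] [IsSimpleGroup G]

namespace Hyp

/-- Data of an element of order five. -/
theorem five_data (h : Hyp G) {y : G} (hy : orderOf y = 5) :
    ∃ N C : ℕ, Nat.card (normalizer (zpowers y : Set G)) = N ∧ Nat.card (centralizer ({y} : Set G)) = C ∧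
      ((N = 120 ∧ (C = 30 ∨ C = 60)) ∨ (N = 20 ∧ (C = 5 ∨ C = 10))) ∧
      (N = 20 → ∀ Q : Sylow 5 G, Nat.card (Sylow 5 G) = 126) := by
  haveI : Fact (Nat.Prime 5) := ⟨by norm_num⟩
  have hc : Nat.card (zpowers y) = 5 := by rw [Nat.card_zpowers, hy]
  obtain ⟨Z, hyZ⟩ := (IsPGroup.of_card (G := zpowers y) (n := 1) (by rw [hc]; norm_num)).exists_le_sylow (p := 5)
  have hZ : Nat.card (Z : Subgroup G) = 5 :=
    card_sylow_of_factor (a := 1) (m := 504) Z (by rw [h.card]; norm_num) (by norm_num)
  have he : zpowers y = (Z : Subgroup G) := Subgroup.eq_of_le_of_card_ge hyZ (by rw [hc, hZ])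
  have hd5 : 5 ∣ Nat.card G := by rw [h.card]; norm_num
  have hCeq : centralizer ({y} : Set G) = centralizer ((Z : Subgroup G) : Set G) := by
    rw [← he, zpowers_eq_closure, centralizer_closure]
  refine ⟨_, _, rfl, rfl, ?_⟩
  rw [he, hCeq]
  set N := normalizer ((Z : Subgroup G) : Set G) with hNdef
  set C := centralizer ((Z : Subgroup G) : Set G) with hCdef
  have hCN : C ≤ N := centralizer_le_normalizer _
  have h5C : 5 ∣ Nat.card C := by
    refine hZ.symm.dvd.trans (Subgroup.card_dvd_of_le ?_)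
    rw [← he, ← hCeq, zpowers_le]
    exact mem_centralizer_singleton_iff.2 rfl
  have hmul : Nat.card C * C.relIndex N = Nat.card N := by
    rw [← Subgroup.card_mul_index (C.subgroupOf N), Nat.card_congr (subgroupOfEquivOfLe hCN).toEquiv]
    rfl
  have h4 : C.relIndex N ∣ 5 - 1 := relIndex_centralizer_dvd hZ le_rfl
  have hne1 : C.relIndex N ≠ 1 := fun e => not_normalizer_le_centralizer h.nc hd5 Z (relIndex_eq_one.1 e)
  have h7 : ¬ 7 ∣ Nat.card N := by
    intro hd
    haveI : Fact (Nat.Prime 7) := ⟨by norm_num⟩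
    obtain ⟨x, hx⟩ := exists_prime_orderOf_dvd_card' (G := N) 7 hd
    have hxC : (x : G) ∈ C := mem_centralizer_of_coprime hZ x.2 (by rw [Subgroup.orderOf_coe, hx]; norm_num)
    refine h.not_seven_dvd_centralizer (u := y) (by simp [hy]) ?_
    rw [hCeq, ← hx, ← Subgroup.orderOf_coe, ← Subgroup.orderOf_mk (x : G) hxC]
    exact orderOf_dvd_natCard _
  have hm := card_normalizer_mul Z
  rw [← hNdef, h.card] at hm
  obtain ⟨hd, hmod⟩ := sylow_facts (a := 1) (m := 504) Z (by rw [h.card]; norm_num) (by norm_num)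
  have hle := h.card_normalizer_le (K := (Z : Subgroup G))
      (fun e => by rw [e, Subgroup.card_bot] at hZ; omega) (by rw [hZ]; norm_num)
  rw [← hNdef] at hle
  have hj4 := Nat.le_of_dvd (by norm_num) h4
  rcases sylow_counts_five _ (Nat.le_of_dvd (by norm_num) hd) hd hmod with e | e | e | e | e | e <;>
    rw [e] at hm
  · omega
  · omega
  · have hN : Nat.card N = 120 := by omega
    refine ⟨Or.inl ⟨hN, ?_⟩, fun e' => absurd e' (by omega)⟩
    rw [hN] at hmul
    interval_cases C.relIndex N <;> omega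
  · exact absurd ⟨10, by omega⟩ h7
  · exfalso
    have hN : Nat.card N = 45 := by omega
    rw [hN] at hmul
    interval_cases C.relIndex N <;> omega
  · have hN : Nat.card N = 20 := by omega
    refine ⟨Or.inr ⟨hN, ?_⟩, fun _ _ => e⟩
    rw [hN] at hmul
    interval_cases C.relIndex N <;> omega

/-- An element of order five normalises no Sylow 3-subgroup once its centraliser has no subgroup of order nine. -/
theorem not_five_dvd_normalizer (h : Hyp G) {P : Subgroup G} (hP : Nat.card P = 9) :
    ¬ 5 ∣ Nat.card (normalizer (P : Set G)) := by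
  intro hd
  haveI : Fact (Nat.Prime 5) := ⟨by norm_num⟩
  obtain ⟨g, hg⟩ := exists_prime_orderOf_dvd_card' (G := normalizer (P : Set G)) 5 hd
  have hg5 : orderOf (g : G) = 5 := by rw [Subgroup.orderOf_coe]; exact hg
  have hgc := centralizes_nine hP (Or.inl rfl) hg5 g.2
  obtain ⟨N, C, -, hC, hcase, -⟩ := h.five_data hg5
  have h9 : 9 ∣ C := by
    rw [← hC, ← hP]
    refine Subgroup.card_dvd_of_le fun x hx => mem_centralizer_singleton_iff.2 ?_
    exact mem_centralizer_iff.1 hgc x hx
  omega

/-- In the centraliser of an element of order three, an element of order five has a conjugate power. -/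
theorem exists_inverter (h : Hyp G) {H P : Subgroup G} {y : G} (hy : orderOf y = 5) (hyH : y ∈ H)
    (hP : Nat.card P = 9) (hPH : P ≤ H) :
    ∃ s ∈ H, s ∈ normalizer (zpowers y : Set G) ∧ s ∉ centralizer ({y} : Set G) := by
  by_contra hno
  push Not at hno
  haveI : Fact (Nat.Prime 5) := ⟨by norm_num⟩
  haveI : Fact (Nat.Prime 3) := ⟨by norm_num⟩
  have hcard : Nat.card (zpowers y) = 5 := by rw [Nat.card_zpowers, hy]
  -- the Sylow 5-subgroup of H
  have hH5 : Nat.card ((zpowers y).subgroupOf H) = 5 ^ (Nat.card H).factorization 5 := by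
    rw [Nat.card_congr (subgroupOfEquivOfLe (zpowers_le.2 hyH)).toEquiv, hcard]
    have hdvd : Nat.card H ∣ 2520 := dvd_card_of h.card H
    have h5 : 5 ∣ Nat.card H := hcard ▸ Subgroup.card_dvd_of_le (zpowers_le.2 hyH)
    have hle : (Nat.card H).factorization 5 ≤ (2520).factorization 5 :=
      (Nat.factorization_le_iff_dvd Nat.card_pos.ne' (by norm_num)).2 hdvd 5
    have h1 : 1 ≤ (Nat.card H).factorization 5 :=
      (Nat.Prime.dvd_iff_one_le_factorization (by norm_num) Nat.card_pos.ne').1 h5
    have h2 : (2520).factorization 5 = 1 := by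
      rw [show 2520 = 5 ^ 1 * 504 by norm_num, Nat.factorization_mul (by norm_num) (by norm_num),
        Finsupp.add_apply, (show Nat.Prime 5 by norm_num).factorization_pow, Finsupp.single_eq_same,
        Nat.factorization_eq_zero_of_not_dvd (by norm_num)]
    rw [show (Nat.card H).factorization 5 = 1 by omega, pow_one]
  let Y : Sylow 5 H := Sylow.ofCard _ hH5
  have hle : normalizer ((Y : Subgroup H) : Set H) ≤ centralizer ((Y : Subgroup H) : Set H) := by
    intro s hs
    have hs' : (s : G) ∈ normalizer (zpowers y : Set G) := by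
      have := Subgroup.subgroupOf_normalizer_eq (zpowers_le.2 hyH)
      have h2 : s ∈ (normalizer (zpowers y : Set G)).subgroupOf H := this.ge hs
      exact h2
    have hsc := hno s s.2 hs'
    refine mem_centralizer_iff.2 fun z hz => Subtype.ext ?_
    obtain ⟨k, hk⟩ := (hz : (z : G) ∈ zpowers y)
    show (z : G) * s = s * z
    have hk' : y ^ k = (z : G) := hk
    rw [← hk']
    exact (Commute.zpow_left (show Commute y (s : G) from (mem_centralizer_singleton_iff.1 hsc).symm) k).eq
  have hcompl := MonoidHom.ker_transferSylow_isComplement' Y hle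
  set M := (MonoidHom.transferSylow Y hle).ker with hM
  have hY : Nat.card (Y : Subgroup H) = 5 := by
    show Nat.card ((zpowers y).subgroupOf H) = 5
    rw [Nat.card_congr (subgroupOfEquivOfLe (zpowers_le.2 hyH)).toEquiv, hcard]
  have hMi : M.index = 5 := by rw [hcompl.symm.index_eq_card, hY]
  -- P lies in M
  have hPM : P.subgroupOf H ≤ M := by
    intro x hx
    rw [← QuotientGroup.eq_one_iff (N := M), ← orderOf_eq_one_iff]
    refine Nat.eq_one_of_dvd_coprimes (show Nat.Coprime 9 5 by norm_num) ?_ ?_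
    · refine (orderOf_map_dvd (QuotientGroup.mk' M) x).trans ?_
      rw [← hP, ← Subgroup.orderOf_coe, ← Subgroup.orderOf_mk (x : G) hx]
      exact orderOf_dvd_natCard _
    · exact (_root_.orderOf_dvd_natCard _).trans (dvd_of_eq (by rw [← Subgroup.index_eq_card, hMi]))
  have hP9 : Nat.card (P.subgroupOf H) = 3 ^ 2 := by
    rw [Nat.card_congr (subgroupOfEquivOfLe hPH).toEquiv, hP]; norm_num
  have hPc : Nat.card (P.subgroupOf H) = 3 ^ (Nat.card H).factorization 3 := by
    rw [hP9]
    have hdvd : Nat.card H ∣ 2520 := dvd_card_of h.card H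
    have h1 : (Nat.card H).factorization 3 ≤ (2520).factorization 3 :=
      (Nat.factorization_le_iff_dvd Nat.card_pos.ne' (by norm_num)).2 hdvd 3
    have h2 : (2520).factorization 3 = 2 := by
      rw [show 2520 = 3 ^ 2 * 280 by norm_num, Nat.factorization_mul (by norm_num) (by norm_num),
        Finsupp.add_apply, Nat.prime_three.factorization_pow, Finsupp.single_eq_same,
        Nat.factorization_eq_zero_of_not_dvd (by norm_num)]
    have h3 : 2 ≤ (Nat.card H).factorization 3 :=
      (Nat.Prime.pow_dvd_iff_le_factorization Nat.prime_three Nat.card_pos.ne').1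
        (hP9 ▸ Subgroup.card_subgroup_dvd_card _)
    rw [show (Nat.card H).factorization 3 = 2 by omega]
  let PS : Sylow 3 H := Sylow.ofCard _ hPc
  have htop : normalizer ((PS : Subgroup H) : Set H) ⊔ M = ⊤ := Sylow.normalizer_sup_eq_top' PS hPM
  -- so 5 divides the normaliser of P
  refine h.not_five_dvd_normalizer hP ?_
  have h5 : 5 ∣ Nat.card (normalizer ((PS : Subgroup H) : Set H)) := by
    have h1 : M.relIndex (normalizer ((PS : Subgroup H) : Set H)) = 5 := by
      rw [← Subgroup.relIndex_sup_left, sup_comm, htop, Subgroup.relIndex_top_right, hMi]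
    exact h1 ▸ Subgroup.relIndex_dvd_card _ _
  refine h5.trans ?_
  rw [← Subgroup.card_map_of_injective (f := H.subtype) (K := normalizer ((PS : Subgroup H) : Set H)) H.subtype_injective]
  refine Subgroup.card_dvd_of_le ?_
  show (normalizer ((P.subgroupOf H : Subgroup H) : Set H)).map H.subtype ≤ normalizer (P : Set G)
  rw [← Subgroup.subgroupOf_normalizer_eq hPH, Subgroup.subgroupOf_map_subtype]
  exact inf_le_left

/-- There are not twenty-one Sylow 5-subgroups. -/
theorem normalizer_five_ne (h : Hyp G) {y : G} (hy : orderOf y = 5) :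
    Nat.card (normalizer (zpowers y : Set G)) ≠ 120 := by
  intro hN
  haveI : Fact (Nat.Prime 5) := ⟨by norm_num⟩
  haveI : Fact (Nat.Prime 3) := ⟨by norm_num⟩
  obtain ⟨N', C', hN', hC', hcase, -⟩ := h.five_data hy
  set C := centralizer ({y} : Set G) with hCdef
  set N := normalizer (zpowers y : Set G) with hNdef
  have hC : Nat.card C = 30 ∨ Nat.card C = 60 := by
    rw [hC']; omega
  have hCN : C ≤ N := by
    rw [hCdef, ← centralizer_closure, ← zpowers_eq_closure]; exact centralizer_le_normalizer _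
  obtain ⟨e, he⟩ := exists_prime_orderOf_dvd_card' (G := C) 3 (by omega)
  have he3 : orderOf (e : G) = 3 := by rw [Subgroup.orderOf_coe]; exact he
  set E := centralizer ({(e : G)} : Set G) with hEdef
  have hec : Nat.card (zpowers (e : G)) = 3 := by rw [Nat.card_zpowers, he3]
  obtain ⟨P, heP⟩ := (IsPGroup.of_card (G := zpowers (e : G)) (n := 1) (by rw [hec]; norm_num)).exists_le_sylow (p := 3)
  have hP : Nat.card (P : Subgroup G) = 9 := h.card_sylow_three P
  have hPE : (P : Subgroup G) ≤ E := fun x hx => mem_centralizer_singleton_iff.2 (congrArg Subtype.val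
    (IsPGroup.commutative_of_card_eq_prime_sq (p := 3) (show Nat.card (P : Subgroup G) = 3 ^ 2 by rw [hP]; norm_num)
      ⟨x, hx⟩ ⟨e, heP (mem_zpowers _)⟩))
  have hyE : y ∈ E := mem_centralizer_singleton_iff.2 (mem_centralizer_singleton_iff.1 e.2).symm
  have he1 : (e : G) ≠ 1 := fun h1 => by rw [h1, orderOf_one] at he3; omega
  have hE315 : Nat.card E ≤ 315 := h.card_centralizer_le he1
  -- the part of E normalising the five-subgroup
  obtain ⟨s0, hs0E, hs0N, hs0C⟩ := h.exists_inverter hy hyE hP hPE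
  set D := C ⊓ E with hD
  set M := N ⊓ E with hMdef
  have hDM : D ≤ M := inf_le_inf_right E hCN
  have h15 : 15 ∣ Nat.card D := by
    refine Nat.Coprime.mul_dvd_of_dvd_of_dvd (show Nat.Coprime 5 3 by norm_num) ?_ ?_
    · rw [← hy, ← Subgroup.orderOf_mk y (show y ∈ D from ⟨mem_centralizer_singleton_iff.2 rfl, hyE⟩)]
      exact orderOf_dvd_natCard _
    · rw [← he3, ← Subgroup.orderOf_mk (e : G) (show (e : G) ∈ D from ⟨e.2, mem_centralizer_singleton_iff.2 rfl⟩)]
      exact orderOf_dvd_natCard _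
  have hM2 : 2 * Nat.card D ≤ Nat.card M := by
    have h1 : D.relIndex M ≠ 1 := fun e1 => hs0C ((relIndex_eq_one.1 e1) ⟨hs0N, hs0E⟩).1
    have h2 := Subgroup.card_mul_index (D.subgroupOf M)
    rw [Nat.card_congr (subgroupOfEquivOfLe hDM).toEquiv] at h2
    have h0 : D.relIndex M ≠ 0 := Subgroup.index_ne_zero_of_finite
    rw [← h2, show (D.subgroupOf M).index = D.relIndex M from rfl, mul_comm]
    exact Nat.mul_le_mul le_rfl (by omega)
  have hyc : Nat.card (zpowers y) = 5 := by rw [Nat.card_zpowers, hy]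
  obtain ⟨Z, hyZ⟩ := (IsPGroup.of_card (G := zpowers y) (n := 1) (by rw [hyc]; norm_num)).exists_le_sylow (p := 5)
  have hZeq : zpowers y = (Z : Subgroup G) := Subgroup.eq_of_le_of_card_ge hyZ
    (by rw [hyc, card_sylow_of_factor (a := 1) (m := 504) Z (by rw [h.card]; norm_num) (by norm_num)]; norm_num)
  obtain ⟨n, hn5, hn2, hn1⟩ := exists_card_eq_mul_inf_normalizer Z (H := E) (hZeq ▸ zpowers_le.2 hyE)
  have hn : n ≠ 1 := by
    intro e1
    have h1 : E ≤ N := by rw [hNdef, hZeq]; exact hn1 e1
    have := hP ▸ Subgroup.card_dvd_of_le (hPE.trans h1)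
    rw [hN] at this
    omega
  have hMn : Nat.card E = n * Nat.card M := by
    rw [hn2, hMdef, inf_comm, hNdef, hZeq]
  have h6 : 6 * Nat.card M ≤ Nat.card E := by
    rw [hMn]; exact Nat.mul_le_mul_right _ (by omega)
  have hDcard : Nat.card D = 15 := by
    have : 0 < Nat.card D := Nat.card_pos
    omega
  have hE180 : 180 ≤ Nat.card E := by omega
  -- no element of C inverts e
  set N3 := normalizer (zpowers (e : G) : Set G) with hN3
  have hEN3 : E ≤ N3 := by
    rw [hEdef, ← centralizer_closure, ← zpowers_eq_closure]; exact centralizer_le_normalizer _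
  have hN3E : N3 = E := by
    by_contra hne
    have h1 : Nat.card N3 ≤ 315 := h.card_normalizer_le (fun e1 => by
      rw [e1, Subgroup.card_bot] at hec; omega) (by rw [hec]; norm_num)
    have h2 := Subgroup.card_mul_index (E.subgroupOf N3)
    rw [Nat.card_congr (subgroupOfEquivOfLe hEN3).toEquiv] at h2
    have h3 : (E.subgroupOf N3).index ≠ 1 := fun e1 => hne (le_antisymm (relIndex_eq_one.1 e1) hEN3)
    have h4 : (E.subgroupOf N3).index ≠ 0 := Subgroup.index_ne_zero_of_finite
    have := Nat.mul_le_mul hE180 (show 2 ≤ (E.subgroupOf N3).index by omega)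
    omega
  -- the Sylow 3-subgroups of C
  have hC60 : Nat.card C = 60 := by
    have hfac : Nat.card ((zpowers (e : G)).subgroupOf C) = 3 ^ (Nat.card C).factorization 3 := by
      rw [Nat.card_congr (subgroupOfEquivOfLe (zpowers_le.2 e.2)).toEquiv, hec]
      have : (Nat.card C).factorization 3 = 1 := by
        rcases hC with e1 | e1 <;> rw [e1]
        · rw [show 30 = 3 ^ 1 * 10 by norm_num, Nat.factorization_mul (by norm_num) (by norm_num),
            Finsupp.add_apply, Nat.prime_three.factorization_pow, Finsupp.single_eq_same,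
            Nat.factorization_eq_zero_of_not_dvd (by norm_num)]
        · rw [show 60 = 3 ^ 1 * 20 by norm_num, Nat.factorization_mul (by norm_num) (by norm_num),
            Finsupp.add_apply, Nat.prime_three.factorization_pow, Finsupp.single_eq_same,
            Nat.factorization_eq_zero_of_not_dvd (by norm_num)]
      rw [this, pow_one]
    let S : Sylow 3 C := Sylow.ofCard _ hfac
    have hmod : (normalizer ((S : Subgroup C) : Set C)).index % 3 = 1 :=
      (congrArg (fun k => k % 3) S.card_eq_index_normalizer.symm).trans (card_sylow_modEq_one 3 C)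
    have hidx : (normalizer ((S : Subgroup C) : Set C)).index * 15 = Nat.card C := by
      have h1 : normalizer ((S : Subgroup C) : Set C) = D.subgroupOf C := by
        show normalizer (((zpowers (e : G)).subgroupOf C : Subgroup C) : Set C) = _
        rw [← Subgroup.subgroupOf_normalizer_eq (zpowers_le.2 e.2), ← hN3, hN3E, hD, Subgroup.inf_subgroupOf_left]
      rw [h1, ← hDcard, ← Nat.card_congr (subgroupOfEquivOfLe (inf_le_left : D ≤ C)).toEquiv, mul_comm,
        Subgroup.card_mul_index]
    omega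
  -- the four-group
  haveI : Fact (Nat.Prime 2) := ⟨Nat.prime_two⟩
  obtain ⟨R⟩ : Nonempty (Sylow 2 C) := Sylow.nonempty
  have hR : Nat.card (R : Subgroup C) = 4 :=
    card_sylow_of_factor (a := 2) (m := 15) R (by rw [hC60]; norm_num) (by norm_num)
  have hodd : ∀ u : G, u ∈ D → orderOf u ≠ 2 := fun u hu h2 => by
    have := orderOf_dvd_natCard (⟨u, hu⟩ : D)
    rw [Subgroup.orderOf_mk, h2, hDcard] at this
    omega
  have hRn : (R : Subgroup C).Normal := by
    rw [← normalizer_eq_top_iff]
    set NR := normalizer ((R : Subgroup C) : Set C) with hNR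
    by_contra hne
    have hyC : y ∈ C := mem_centralizer_singleton_iff.2 rfl
    have hyN : (⟨y, hyC⟩ : C) ∈ NR := by
      refine mem_normalizer_iff.2 fun r => ?_
      have : (⟨y, hyC⟩ : C) * r * (⟨y, hyC⟩ : C)⁻¹ = r := Subtype.ext (by
        have h1 := mem_centralizer_singleton_iff.1 r.2
        show y * (r : G) * y⁻¹ = r
        rw [← h1]; group)
      rw [this]
    have h5 : 5 ∣ Nat.card NR := by
      rw [← hy, ← Subgroup.orderOf_mk y hyC, ← Subgroup.orderOf_mk _ hyN]
      exact orderOf_dvd_natCard _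
    have h4 : 4 ∣ Nat.card NR := hR ▸ Subgroup.card_dvd_of_le le_normalizer
    have hNR20 : Nat.card NR = 20 := by
      have hdvd : Nat.card NR ∣ 60 := hC60 ▸ Subgroup.card_subgroup_dvd_card _
      obtain ⟨k, hk⟩ := Nat.Coprime.mul_dvd_of_dvd_of_dvd (show Nat.Coprime 4 5 by norm_num) h4 h5
      rw [hk] at hdvd
      have hk3 : k ∣ 3 := Nat.dvd_of_mul_dvd_mul_left (by norm_num : 0 < 20) (show 20 * k ∣ 20 * 3 from hdvd)
      rcases (Nat.dvd_prime Nat.prime_three).1 hk3 with e1 | e1
      · rw [hk, e1]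
      · exact absurd (Subgroup.eq_top_of_card_eq _ (by rw [hk, e1, hC60])) hne
    -- Burnside
    have hle : NR ≤ centralizer ((R : Subgroup C) : Set C) := by
      set CR := centralizer ((R : Subgroup C) : Set C) with hCR
      have hRc : (R : Subgroup C) ≤ CR := by
        intro a ha
        refine mem_centralizer_iff.2 fun b hb => ?_
        exact congrArg Subtype.val (IsPGroup.commutative_of_card_eq_prime_sq (p := 2)
          (show Nat.card (R : Subgroup C) = 2 ^ 2 by rw [hR]; norm_num) ⟨b, hb⟩ ⟨a, ha⟩)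
      have hyR : (⟨y, hyC⟩ : C) ∈ CR := mem_centralizer_iff.2 fun r _ => Subtype.ext
        (show (r : G) * y = y * r from mem_centralizer_singleton_iff.1 r.2)
      refine le_of_eq (Subgroup.eq_of_le_of_card_ge (centralizer_le_normalizer _) ?_).symm
      rw [← hNR, hNR20]
      refine Nat.le_of_dvd Nat.card_pos (Nat.Coprime.mul_dvd_of_dvd_of_dvd (show Nat.Coprime 4 5 by norm_num)
        (hR ▸ Subgroup.card_dvd_of_le hRc) ?_)
      rw [← hy, ← Subgroup.orderOf_mk y hyC, ← Subgroup.orderOf_mk _ hyR]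
      exact orderOf_dvd_natCard _
    have hcompl := MonoidHom.ker_transferSylow_isComplement' R hle
    set M1 := (MonoidHom.transferSylow R hle).ker with hM1
    have hM15 : Nat.card M1 = 15 := by
      have := hcompl.card_mul
      rw [hR, hC60] at this
      omega
    -- then the three-subgroup is normal in C
    have heM : e ∈ M1 := by
      rw [← QuotientGroup.eq_one_iff (N := M1), ← orderOf_eq_one_iff]
      refine Nat.eq_one_of_dvd_coprimes (show Nat.Coprime 3 4 by norm_num) ?_ ?_
      · exact he ▸ orderOf_map_dvd (QuotientGroup.mk' M1) e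
      · have : M1.index = 4 := by
          have := M1.card_mul_index; rw [hM15, hC60] at this; omega
        rw [← this, Subgroup.index_eq_card]; exact orderOf_dvd_natCard _
    haveI hcyc : IsCyclic M1 := by
      obtain ⟨a, ha⟩ := exists_prime_orderOf_dvd_card' (G := M1) 5 (by rw [hM15]; norm_num)
      have hca : Commute a (⟨e, heM⟩ : M1) := by
        -- the element of order five lies in the centre
        refine Subtype.ext (Subtype.ext ?_)
        show ((a : C) : G) * e = e * ((a : C) : G)
        have hmem : ((a : C) : G) ∈ zpowers y := by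
          rw [hZeq]
          refine mem_sylow_of_orderOf Z (by rw [Subgroup.orderOf_coe, Subgroup.orderOf_coe, ha]) ?_
          rw [← hZeq]
          exact hCN (a : C).2
        obtain ⟨i, hi⟩ := hmem
        rw [← hi]
        exact (Commute.zpow_left (show Commute y (e : G) from (mem_centralizer_singleton_iff.1 e.2).symm) i).eq
      refine isCyclic_of_orderOf_eq_card (a * ⟨e, heM⟩) ?_
      rw [hca.orderOf_mul_eq_mul_orderOf_of_coprime (by rw [ha, Subgroup.orderOf_mk, he]; norm_num), ha,
        Subgroup.orderOf_mk, he, hM15]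
    -- every conjugate of e is a power of e
    have hCN3 : C ≤ N3 := by
      intro c hc
      rw [hN3]
      refine mem_normalizer_fintype ?_
      rintro z ⟨i, rfl⟩
      show c * (e : G) ^ i * c⁻¹ ∈ zpowers (e : G)
      rw [← conj_zpow]
      refine zpow_mem ?_ i
      have hce : (⟨c, hc⟩ : C) * e * (⟨c, hc⟩ : C)⁻¹ ∈ M1 := (MonoidHom.normal_ker _).conj_mem _ heM _
      have hmem : (⟨_, hce⟩ : M1) ∈ zpowers (⟨e, heM⟩ : M1) := by
        letI : CommGroup M1 := IsCyclic.commGroup
        obtain ⟨S, hS⟩ := (IsPGroup.of_card (G := zpowers (⟨e, heM⟩ : M1)) (n := 1)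
          (by rw [Nat.card_zpowers, Subgroup.orderOf_mk, he]; norm_num)).exists_le_sylow (p := 3)
        have hS3 : Nat.card (S : Subgroup M1) = 3 :=
          card_sylow_of_factor (a := 1) (m := 5) S (by rw [hM15]; norm_num) (by norm_num)
        rw [Subgroup.eq_of_le_of_card_ge hS (by rw [hS3, Nat.card_zpowers, Subgroup.orderOf_mk, he])]
        refine mem_sylow_of_orderOf S ?_ ?_
        · rw [Subgroup.orderOf_mk]
          exact (orderOf_injective (MulAut.conj (⟨c, hc⟩ : C)).toMonoidHom (MulEquiv.injective _) e).trans he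
        · rw [normalizer_eq_top]; exact mem_top _
      obtain ⟨j, hj⟩ := hmem
      exact ⟨j, by simpa using congrArg (fun w : M1 => ((w : C) : G)) hj⟩
    have : C ≤ D := le_inf le_rfl (hN3E ▸ hCN3)
    have := Subgroup.card_le_of_le this
    omega
  -- its three involutions
  set V := (R : Subgroup C).map C.subtype with hV
  have hVcard : Nat.card V = 4 := by rw [hV, Subgroup.card_map_of_injective C.subtype_injective, hR]
  have hVC : V ≤ C := map_subtype_le _
  have hconjV : ∀ g : G, g ∈ normalizer (C : Set G) → ∀ x ∈ V, g * x * g⁻¹ ∈ V := by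
    rintro g hg _ ⟨r, hr, rfl⟩
    have hgr : g * (r : G) * g⁻¹ ∈ C := conj_mem_of_normalizer hg r.2
    have hp : IsPGroup 2 (zpowers (⟨_, hgr⟩ : C)) := by
      obtain ⟨k, hk⟩ := (IsPGroup.iff_orderOf.1 R.2) ⟨r, hr⟩
      refine IsPGroup.of_card (n := k) ?_
      rw [Nat.card_zpowers, Subgroup.orderOf_mk, ← hk, Subgroup.orderOf_mk, ← Subgroup.orderOf_coe]
      exact orderOf_injective (MulAut.conj g).toMonoidHom (MulEquiv.injective _) _
    refine ⟨⟨_, hgr⟩, le_sylow_of_normalizer R hp ?_ (mem_zpowers _), rfl⟩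
    rw [normalizer_eq_top]; exact le_top
  have heV : (e : G) ∈ normalizer (C : Set G) := le_normalizer e.2
  have hfree : ∀ v ∈ V, v ≠ 1 → (e : G) * v * (e : G)⁻¹ ≠ v := by
    intro v hv hv1 heq
    have hvD : v ∈ D := ⟨hVC hv, mem_centralizer_singleton_iff.2 (mul_inv_eq_iff_eq_mul.1 heq).symm⟩
    have hd1 : orderOf v ∣ 4 := hVcard ▸ Subgroup.orderOf_mk v hv ▸ orderOf_dvd_natCard _
    have hd2 : orderOf v ∣ 15 := hDcard ▸ Subgroup.orderOf_mk v hvD ▸ orderOf_dvd_natCard _
    exact hv1 (orderOf_eq_one_iff.1 (Nat.eq_one_of_dvd_coprimes (show Nat.Coprime 4 15 by norm_num) hd1 hd2))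
  obtain ⟨v0, hv0⟩ := exists_prime_orderOf_dvd_card' (G := V) 2 (by rw [hVcard]; norm_num)
  have hv2 : orderOf (v0 : G) = 2 := by rw [Subgroup.orderOf_coe]; exact hv0
  have hv01 : (v0 : G) ≠ 1 := fun e1 => by rw [e1, orderOf_one] at hv2; omega
  set v := (v0 : G) with hvdef
  let τ : {x : G // x ∈ V ∧ x ≠ 1} → {x : G // x ∈ V ∧ x ≠ 1} := fun x =>
    ⟨(e : G) * x * (e : G)⁻¹, hconjV _ heV _ x.2.1, fun e1 => x.2.2 (by
      rw [mul_inv_eq_one] at e1; exact mul_left_cancel (e1.trans (mul_one _).symm))⟩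
  have hτfree : ∀ x, τ x ≠ x := fun x e1 => hfree _ x.2.1 x.2.2 (congrArg Subtype.val e1)
  have h3c : ∀ x, τ (τ (τ x)) = x := fun x => Subtype.ext (by
    show (e : G) * ((e : G) * ((e : G) * x * (e : G)⁻¹) * (e : G)⁻¹) * (e : G)⁻¹ = x
    have : (e : G) ^ 3 = 1 := he3 ▸ pow_orderOf_eq_one _
    rw [pow_succ, pow_two] at this
    calc _ = (e : G) * e * e * x * ((e : G) * e * e)⁻¹ := by group
      _ = x := by rw [this]; group)
  set v' : {x : G // x ∈ V ∧ x ≠ 1} := ⟨v, v0.2, hv01⟩ with hv'
  have hcard3 : Nat.card {x : G // x ∈ V ∧ x ≠ 1} = 3 := by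
    classical
    haveI := Fintype.ofFinite V
    rw [Nat.card_congr (Equiv.trans
      { toFun := fun x => ⟨⟨x.1, x.2.1⟩, fun e1 => x.2.2 (congrArg Subtype.val e1)⟩
        invFun := fun x : {a : V // a ≠ 1} => ⟨(x.1 : G), x.1.2, fun e1 => x.2 (Subtype.ext e1)⟩
        left_inv := fun _ => rfl
        right_inv := fun _ => rfl } (Equiv.refl _)), Nat.card_eq_fintype_card, Fintype.card_subtype_compl,
      Fintype.card_subtype_eq, ← Nat.card_eq_fintype_card, hVcard]
  have h3 : ∀ x, x = v' ∨ x = τ v' ∨ x = τ (τ v') := by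
    intro x
    by_contra hx
    push Not at hx
    classical
    haveI := Fintype.ofFinite {x : G // x ∈ V ∧ x ≠ 1}
    have hne : v' ≠ τ (τ v') := fun e1 => hτfree v' (by
      calc τ v' = τ (τ (τ v')) := by rw [← e1]
        _ = v' := h3c _)
    have h4 : ({v', τ v', τ (τ v'), x} : Finset {x : G // x ∈ V ∧ x ≠ 1}).card = 4 := by
      rw [Finset.card_insert_of_notMem, Finset.card_insert_of_notMem, Finset.card_pair hx.2.2.symm]
      · simp [(hτfree (τ v')).symm, hx.2.1.symm]
      · simp [(hτfree v').symm, hne, hx.1.symm]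
    have := Finset.card_le_univ ({v', τ v', τ (τ v'), x} : Finset {x : G // x ∈ V ∧ x ≠ 1})
    rw [h4, ← Nat.card_eq_fintype_card, hcard3] at this
    omega
  -- the involution inverting y
  have hMcard : 2 ∣ Nat.card M := by
    have h1 : Nat.card M ∣ Nat.card N := Subgroup.card_dvd_of_le inf_le_left
    have h2 : Nat.card M ≤ 52 := by omega
    have h3' : 15 ∣ Nat.card M := h15.trans (Subgroup.card_dvd_of_le hDM)
    rw [hN] at h1
    obtain ⟨k, hk⟩ := h3'
    rw [hk] at h1 h2
    have hk8 : k ∣ 8 := Nat.dvd_of_mul_dvd_mul_left (by norm_num : 0 < 15) (show 15 * k ∣ 15 * 8 from h1)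
    obtain ⟨i, hi, rfl⟩ := (Nat.dvd_prime_pow Nat.prime_two).1 (show k ∣ 2 ^ 3 from hk8)
    rcases i with _ | i
    · omega
    · exact ⟨15 * 2 ^ i, by rw [hk]; ring⟩
  obtain ⟨s, hs⟩ := exists_prime_orderOf_dvd_card' (G := M) 2 hMcard
  have hs2 : orderOf (s : G) = 2 := by rw [Subgroup.orderOf_coe]; exact hs
  have hsC : (s : G) ∉ C := fun e1 => hodd _ ⟨e1, s.2.2⟩ hs2
  have hsnC : (s : G) ∈ normalizer (C : Set G) := by
    have hsN : (s : G) ∈ N := s.2.1
    refine mem_normalizer_fintype ?_
    intro c hc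
    refine mem_centralizer_singleton_iff.2 ?_
    have hy' : (s : G)⁻¹ * y * s ∈ zpowers y := by
      simpa using conj_mem_of_normalizer (inv_mem hsN) (mem_zpowers y)
    obtain ⟨i, hi⟩ := hy'
    have h1 : Commute c ((s : G)⁻¹ * y * s) := by
      rw [← hi]; exact Commute.zpow_right (mem_centralizer_singleton_iff.1 hc) i
    calc (s : G) * c * (s : G)⁻¹ * y = (s : G) * (c * ((s : G)⁻¹ * y * s)) * (s : G)⁻¹ := by group
      _ = (s : G) * ((s : G)⁻¹ * y * s * c) * (s : G)⁻¹ := by rw [h1.eq]
      _ = y * ((s : G) * c * (s : G)⁻¹) := by group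
  have hss : (s : G) * s = 1 := by rw [← pow_two, ← hs2, pow_orderOf_eq_one]
  let σ : {x : G // x ∈ V ∧ x ≠ 1} → {x : G // x ∈ V ∧ x ≠ 1} := fun x =>
    ⟨(s : G) * x * (s : G)⁻¹, hconjV _ hsnC _ x.2.1, fun e1 => x.2.2 (by
      rw [mul_inv_eq_one] at e1; exact mul_left_cancel (e1.trans (mul_one _).symm))⟩
  have hσ : ∀ x, σ (σ x) = x := fun x => Subtype.ext (by
    show (s : G) * ((s : G) * x * (s : G)⁻¹) * (s : G)⁻¹ = x
    calc _ = ((s : G) * s) * x * ((s : G) * s)⁻¹ := by group
      _ = x := by rw [hss]; group)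
  have hse : (s : G) * e = e * s := mem_centralizer_singleton_iff.1 s.2.2
  have hcst : ∀ x, σ (τ x) = τ (σ x) := fun x => Subtype.ext (by
    show (s : G) * ((e : G) * x * (e : G)⁻¹) * (s : G)⁻¹ = (e : G) * ((s : G) * x * (s : G)⁻¹) * (e : G)⁻¹
    calc _ = ((s : G) * e) * x * ((s : G) * e)⁻¹ := by group
      _ = _ := by rw [hse]; group)
  have hfix := fix_three h3 (h3c v') hσ hcst
  have hsv : (s : G) * v = v * s :=
    mul_inv_eq_iff_eq_mul.1 (congrArg Subtype.val (hfix v'))
  -- the centraliser of v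
  set A := centralizer ({v} : Set G) with hA
  have hyA : y ∈ A := mem_centralizer_singleton_iff.2 (mem_centralizer_singleton_iff.1 (hVC v0.2)).symm
  have h40 : 40 ∣ Nat.card A := by
    refine Nat.Coprime.mul_dvd_of_dvd_of_dvd (show Nat.Coprime 8 5 by norm_num) (h.eight_dvd hv2) ?_
    rw [← hy, ← Subgroup.orderOf_mk y hyA]; exact orderOf_dvd_natCard _
  have h3A : ¬ 3 ∣ Nat.card A := by
    intro h3'
    have hA315 : Nat.card A ≤ 315 := h.card_centralizer_le hv01
    obtain ⟨m, hm5, hm2, -⟩ := exists_card_eq_mul_inf_normalizer Z (H := A) (hZeq ▸ zpowers_le.2 hyA)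
    rw [← hZeq, ← hNdef, inf_comm] at hm2
    set B := N ⊓ A with hB
    have hRA : V ≤ A := by
      intro r hr
      refine mem_centralizer_singleton_iff.2 ?_
      exact congrArg Subtype.val (IsPGroup.commutative_of_card_eq_prime_sq (p := 2)
        (show Nat.card V = 2 ^ 2 by rw [hVcard]; norm_num) ⟨r, hr⟩ v0)
    have hB20 : 20 ∣ Nat.card B := Nat.Coprime.mul_dvd_of_dvd_of_dvd (show Nat.Coprime 4 5 by norm_num)
      (hVcard ▸ Subgroup.card_dvd_of_le (le_inf (hVC.trans hCN) hRA))
      (hy ▸ Subgroup.orderOf_mk y (show y ∈ B from ⟨le_normalizer (mem_zpowers y), hyA⟩) ▸ orderOf_dvd_natCard _)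
    have hB120 : Nat.card B ∣ 120 := hN ▸ Subgroup.card_dvd_of_le inf_le_left
    have hB20ne : Nat.card B ≠ 20 := by
      intro eB
      have hCA : 20 ∣ Nat.card ↥(C ⊓ A) := Nat.Coprime.mul_dvd_of_dvd_of_dvd (show Nat.Coprime 4 5 by norm_num)
        (hVcard ▸ Subgroup.card_dvd_of_le (le_inf hVC hRA))
        (hy ▸ Subgroup.orderOf_mk y (show y ∈ C ⊓ A from ⟨mem_centralizer_singleton_iff.2 rfl, hyA⟩) ▸
          orderOf_dvd_natCard _)
      have heq : C ⊓ A = B := Subgroup.eq_of_le_of_card_ge (inf_le_inf_right A hCN)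
        (by rw [eB]; exact Nat.le_of_dvd Nat.card_pos hCA)
      exact hsC (heq.ge ⟨s.2.1, mem_centralizer_singleton_iff.2 hsv⟩).1
    have hB120ne : Nat.card B ≠ 120 := by
      intro eB
      have hBN : N = B := (Subgroup.eq_of_le_of_card_ge inf_le_left (by rw [eB, hN])).symm
      have := (hBN ▸ hCN e.2).2
      exact hfree v v0.2 hv01 (mul_inv_eq_iff_eq_mul.2 (mem_centralizer_singleton_iff.1 this))
    have hdvd := dvd_card_of h.card A
    obtain ⟨k, hk⟩ := Nat.Coprime.mul_dvd_of_dvd_of_dvd (show Nat.Coprime 40 3 by norm_num) h40 h3'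
    rw [hk] at hm2 hdvd hA315
    have hk1 : k = 1 := by
      have hk21 : k ∣ 21 := Nat.dvd_of_mul_dvd_mul_left (by norm_num : 0 < 120) (show 120 * k ∣ 120 * 21 from hdvd)
      have : k ≤ 2 := by omega
      interval_cases k
      · omega
      · rfl
      · omega
    rw [hk1, mul_one] at hm2
    obtain ⟨j, hj⟩ := hB20
    rw [hj] at hm2 hB20ne hB120ne
    have hm6 : m ∣ 6 := Dvd.intro j (by linarith)
    have := Nat.le_of_dvd (by norm_num) hm6
    interval_cases m <;> omega
  -- every involution is conjugate to v, in particular s, which e centralises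
  obtain ⟨g, hg⟩ := h.exists_conj_mem hVcard hs2
  have hg1 : g⁻¹ * (s : G) * g ≠ 1 := fun e1 => by
    have h2 : (s : G) = 1 := by
      calc (s : G) = g * (g⁻¹ * (s : G) * g) * g⁻¹ := by group
        _ = 1 := by rw [e1]; group
    rw [h2, orderOf_one] at hs2
    omega
  have hconj : ∀ x : {x : G // x ∈ V ∧ x ≠ 1}, ∃ a : G, a * v * a⁻¹ = x := by
    intro x
    rcases h3 x with e1 | e1 | e1 <;> subst e1
    · exact ⟨1, by simp [hv']⟩
    · exact ⟨e, rfl⟩
    · refine ⟨(e : G) * e, ?_⟩
      show _ = (e : G) * ((e : G) * v * (e : G)⁻¹) * (e : G)⁻¹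
      group
  obtain ⟨a, ha⟩ := hconj ⟨_, hg, hg1⟩
  refine h3A ?_
  have hmem : (g * a)⁻¹ * e * (g * a) ∈ A := by
    refine mem_centralizer_singleton_iff.2 ?_
    have hsval : (g * a) * v * (g * a)⁻¹ = (s : G) := by
      calc _ = g * (a * v * a⁻¹) * g⁻¹ := by group
        _ = g * (g⁻¹ * (s : G) * g) * g⁻¹ := by rw [ha]
        _ = s := by group
    generalize g * a = b at hsval ⊢
    have hv_eq : v = b⁻¹ * s * b := by rw [← hsval]; group
    rw [hv_eq]
    calc b⁻¹ * e * b * (b⁻¹ * s * b) = b⁻¹ * ((e : G) * s) * b := by group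
      _ = b⁻¹ * ((s : G) * e) * b := by rw [hse]
      _ = _ := by group
  have h2 := orderOf_dvd_natCard (⟨_, hmem⟩ : A)
  rw [Subgroup.orderOf_mk] at h2
  refine he3 ▸ (dvd_of_eq ?_).trans h2
  have h4 := orderOf_injective (MulAut.conj (g * a)⁻¹).toMonoidHom (MulEquiv.injective _) (e : G)
  simpa [mul_assoc] using h4.symm

end Hyp

end Cfsg.Lib.AltSeven
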