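import Cfsg.Agent.Small.AltSeven.FiveCases
import Cfsg.Agent.Small.FixedPoints

/-!
The centraliser of an element of order five has order five, and there is an element of order four.
-/

set_option autoImplicit false
set_option linter.unusedSectionVars false
set_option linter.style.haveILetI false

namespace Cfsg.Lib.AltSeven

open Subgroup Cfsg.Lib.Small MulAction

variable {G : Type*} [Group G] [Finite G] [IsSimpleGroup G]

omit [IsSimpleGroup G] in
theorem orderOf_conj (g x : G) : orderOf (g * x * g⁻¹) = orderOf x :=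
  orderOf_injective (MulAut.conj g).toMonoidHom (MulEquiv.injective _) x

omit [Finite G] [IsSimpleGroup G] in
/-- The four group generated by two commuting involutions. -/
theorem exists_four {a b : G} (ha : a * a = 1) (hb : b * b = 1) (hc : a * b = b * a) (ha1 : a ≠ 1) (hb1 : b ≠ 1)
    (hab : a ≠ b) :
    ∃ Q : Subgroup G, Nat.card Q = 4 ∧ ∀ x ∈ Q, x = 1 ∨ x = a ∨ x = b ∨ x = a * b := by
  classical
  have e1 : b * a = a * b := hc.symm
  have e2 : a * (a * b) = b := by rw [← mul_assoc, ha, one_mul]
  have e3 : a * b * a = b := by rw [mul_assoc, e1, e2]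
  have e4 : a * b * b = a := by rw [mul_assoc, hb, mul_one]
  have e5 : b * (a * b) = a := by rw [hc, ← mul_assoc, hb, one_mul]
  have e6 : a * b * (a * b) = 1 := by rw [← mul_assoc, e3, hb]
  have hab1 : a * b ≠ 1 := fun e => hab ((inv_eq_of_mul_eq_one_left ha).symm.trans (inv_eq_of_mul_eq_one_right e))
  let Q : Subgroup G :=
    { carrier := {x | x = 1 ∨ x = a ∨ x = b ∨ x = a * b}
      one_mem' := Or.inl rfl
      mul_mem' := fun {x z} hx hz => by
        rcases hx with rfl | rfl | rfl | rfl <;> rcases hz with rfl | rfl | rfl | rfl <;>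
          simp [ha, hb, e1, e2, e3, e4, e5, e6]
      inv_mem' := fun {x} hx => by
        rcases hx with rfl | rfl | rfl | rfl
        · exact Or.inl inv_one
        · exact Or.inr (Or.inl (inv_eq_of_mul_eq_one_left ha))
        · exact Or.inr (Or.inr (Or.inl (inv_eq_of_mul_eq_one_left hb)))
        · exact Or.inr (Or.inr (Or.inr (inv_eq_of_mul_eq_one_left e6))) }
  refine ⟨Q, ?_, fun x hx => hx⟩
  have hset : ((Q : Subgroup G) : Set G) = (({1, a, b, a * b} : Finset G) : Set G) := by
    ext x
    simp only [Finset.coe_insert, Finset.coe_singleton, Set.mem_insert_iff, Set.mem_singleton_iff]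
    rfl
  show Nat.card ((Q : Subgroup G) : Set G) = 4
  rw [hset, Nat.card_coe_set_eq, Set.ncard_coe_finset, Finset.card_insert_of_notMem, Finset.card_insert_of_notMem,
    Finset.card_pair]
  · exact fun e => ha1 (mul_eq_right.1 e.symm)
  · simp only [Finset.mem_insert, Finset.mem_singleton, not_or]
    exact ⟨hab, fun e => hb1 (mul_eq_left.1 e.symm)⟩
  · simp only [Finset.mem_insert, Finset.mem_singleton, not_or]
    exact ⟨ha1.symm, hb1.symm, hab1.symm⟩

namespace Hyp

/-- Elements of order five and seven: their numbers. -/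
theorem card_five_seven_ge (h : Hyp G) {y : G} (hy : orderOf y = 5) :
    504 ≤ Nat.card {g : G // orderOf g = 5} ∧ 720 ≤ Nat.card {g : G // orderOf g = 7} := by
  haveI : Fact (Nat.Prime 5) := ⟨by norm_num⟩
  haveI : Fact (Nat.Prime 7) := ⟨by norm_num⟩
  have h5 : ∀ P : Sylow 5 G, Nat.card (P : Subgroup G) = 5 := fun P =>
    card_sylow_of_factor (a := 1) (m := 504) P (by rw [h.card]; norm_num) (by norm_num)
  have h7 : ∀ P : Sylow 7 G, Nat.card (P : Subgroup G) = 7 := fun P =>
    card_sylow_of_factor (a := 1) (m := 360) P (by rw [h.card]; norm_num) (by norm_num)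
  obtain ⟨N, C, hN, -, hcase, hn⟩ := h.five_data hy
  have hne := h.normalizer_five_ne hy
  have hN20 : N = 20 := by omega
  obtain ⟨Q⟩ : Nonempty (Sylow 5 G) := Sylow.nonempty
  have a := card_orderOf_prime_ge h5
  have b := card_orderOf_prime_ge h7
  rw [hn hN20 Q] at a
  rw [h.card_sylow_seven] at b
  exact ⟨a, b⟩

set_option maxHeartbeats 1600000 in
/-- The centraliser of an element of order five has order five. -/
theorem card_centralizer_five (h : Hyp G) {y : G} (hy : orderOf y = 5) :
    Nat.card (centralizer ({y} : Set G)) = 5 := by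
  classical
  haveI : Fact (Nat.Prime 5) := ⟨by norm_num⟩
  haveI : Fact (Nat.Prime 2) := ⟨Nat.prime_two⟩
  obtain ⟨N', C', hN', hC', hcase, -⟩ := h.five_data hy
  have hne := h.normalizer_five_ne hy
  have hN : Nat.card (normalizer (zpowers y : Set G)) = 20 := by omega
  by_contra h5
  set C := centralizer ({y} : Set G) with hCdef
  have hC : Nat.card C = 10 := by omega
  set N := normalizer (zpowers y : Set G) with hNdef
  have hyC : y ∈ C := mem_centralizer_singleton_iff.2 rfl
  obtain ⟨t0, ht0⟩ := exists_prime_orderOf_dvd_card' (G := C) 2 (by rw [hC]; norm_num)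
  set t := (t0 : G) with htdef
  have ht : orderOf t = 2 := by rw [htdef, Subgroup.orderOf_coe]; exact ht0
  have hty : t * y = y * t := mem_centralizer_singleton_iff.1 t0.2
  have ht1 : t ≠ 1 := fun e => by rw [e, orderOf_one] at ht; omega
  haveI : IsCyclic C := by
    have hcomm : Commute t0 (⟨y, hyC⟩ : C) := Subtype.ext hty
    refine isCyclic_of_orderOf_eq_card (t0 * ⟨y, hyC⟩) ?_
    rw [hcomm.orderOf_mul_eq_mul_orderOf_of_coprime (by rw [ht0, Subgroup.orderOf_mk, hy]; norm_num),
      ht0, Subgroup.orderOf_mk, hy, hC]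
  -- t is the only involution of C
  have huniq : ∀ u ∈ C, orderOf u = 2 → u = t := by
    intro u hu hu2
    letI : CommGroup C := IsCyclic.commGroup
    obtain ⟨S, hS⟩ := (IsPGroup.of_card (G := zpowers t0) (n := 1)
      (by rw [Nat.card_zpowers, ht0]; norm_num)).exists_le_sylow (p := 2)
    have hS2 : Nat.card (S : Subgroup C) = 2 :=
      card_sylow_of_factor (a := 1) (m := 5) S (by rw [hC]; norm_num) (by norm_num)
    have hmem : (⟨u, hu⟩ : C) ∈ zpowers t0 := by
      rw [Subgroup.eq_of_le_of_card_ge hS (by rw [hS2, Nat.card_zpowers, ht0])]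
      refine mem_sylow_of_orderOf S (by rw [Subgroup.orderOf_mk]; exact hu2) ?_
      rw [normalizer_eq_top]; exact mem_top _
    obtain ⟨i, hi, e⟩ := exists_pow_lt hmem
    rw [ht0] at hi
    interval_cases i
    · rw [pow_zero] at e
      have e' : (1 : G) = u := congrArg Subtype.val e
      rw [← e', orderOf_one] at hu2; omega
    · rw [pow_one] at e
      exact (congrArg Subtype.val e).symm
  set X := centralizer ({t} : Set G) with hX
  have hNX : N ≤ X := by
    intro n hn
    have h1 : n * t * n⁻¹ ∈ C := by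
      refine mem_centralizer_singleton_iff.2 ?_
      have hy' : n⁻¹ * y * n ∈ zpowers y := by
        simpa using conj_mem_of_normalizer (inv_mem hn) (mem_zpowers y)
      obtain ⟨i, hi⟩ := hy'
      have hc : Commute t (n⁻¹ * y * n) := by rw [← hi]; exact Commute.zpow_right hty i
      calc n * t * n⁻¹ * y = n * (t * (n⁻¹ * y * n)) * n⁻¹ := by group
        _ = n * (n⁻¹ * y * n * t) * n⁻¹ := by rw [hc.eq]
        _ = y * (n * t * n⁻¹) := by group
    have := huniq _ h1 (by rw [orderOf_conj, ht])
    exact mem_centralizer_singleton_iff.2 (mul_inv_eq_iff_eq_mul.1 this)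
  have hX120 : Nat.card X = 120 := by
    have h315 : Nat.card X ≤ 315 := h.card_centralizer_le ht1
    have h8 := h.eight_dvd ht
    rw [← hX] at h8
    have hyc : Nat.card (zpowers y) = 5 := by rw [Nat.card_zpowers, hy]
    obtain ⟨Z, hyZ⟩ := (IsPGroup.of_card (G := zpowers y) (n := 1) (by rw [hyc]; norm_num)).exists_le_sylow (p := 5)
    have hZeq : zpowers y = (Z : Subgroup G) := Subgroup.eq_of_le_of_card_ge hyZ
      (by rw [hyc, card_sylow_of_factor (a := 1) (m := 504) Z (by rw [h.card]; norm_num) (by norm_num)]; norm_num)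
    have hZX : (Z : Subgroup G) ≤ X := hZeq ▸ (le_normalizer.trans hNX)
    obtain ⟨n, hn5, hn2, -⟩ := exists_card_eq_mul_inf_normalizer Z hZX
    rw [← hZeq, ← hNdef, inf_eq_right.2 hNX, hN] at hn2
    have hd : Nat.card X ∣ 2520 := dvd_card_of h.card X
    rw [hn2] at hd h315 h8
    have hn126 : n ∣ 126 :=
      Nat.dvd_of_mul_dvd_mul_left (by norm_num : 0 < 20) (show 20 * n ∣ 20 * 126 by rw [mul_comm]; exact hd)
    have : n ≤ 15 := by omega
    interval_cases n <;> omega
  -- the action on the cosets of X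
  haveI := Fintype.ofFinite (G ⧸ X)
  have hidx : Fintype.card (G ⧸ X) = 21 := by
    rw [← Nat.card_eq_fintype_card, ← Subgroup.index_eq_card]
    have hm := X.card_mul_index
    rw [hX120, h.card] at hm
    omega
  set x0 : G ⧸ X := ((1 : G) : G ⧸ X) with hx0
  have hmemX : ∀ (u g : G), u • (g : G ⧸ X) = (g : G ⧸ X) → g⁻¹ * u * g ∈ X := fun u g e => by
    have h' : ((u * g : G) : G ⧸ X) = (g : G) := e
    have h2 := QuotientGroup.eq.1 h'.symm
    rwa [← mul_assoc] at h2
  have hyfix : ∀ x : G ⧸ X, y • x = x → x = x0 := by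
    intro x
    obtain ⟨g, rfl⟩ := QuotientGroup.mk_surjective x
    intro e
    have h1 := mem_centralizer_singleton_iff.1 (hmemX _ _ e)
    have h2 : g * t * g⁻¹ ∈ C := by
      refine mem_centralizer_singleton_iff.2 ?_
      calc g * t * g⁻¹ * y = g * (t * (g⁻¹ * y * g)) * g⁻¹ := by group
        _ = g * (g⁻¹ * y * g * t) * g⁻¹ := by rw [h1]
        _ = y * (g * t * g⁻¹) := by group
    have h3 := huniq _ h2 (by rw [orderOf_conj, ht])
    rw [hx0, QuotientGroup.eq, mul_one, inv_mem_iff]
    exact mem_centralizer_singleton_iff.2 (mul_inv_eq_iff_eq_mul.1 h3)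
  set σ := MulAction.toPermHom G (G ⧸ X) t with hσ
  set τ := MulAction.toPermHom G (G ⧸ X) y with hτ
  have hσx0 : σ x0 = x0 := by
    show ((t * 1 : G) : G ⧸ X) = ((1 : G) : G ⧸ X)
    rw [mul_one, QuotientGroup.eq, mul_one, inv_mem_iff]
    exact mem_centralizer_singleton_iff.2 rfl
  have hinv : ∀ x, τ x ∈ σ.support ↔ x ∈ σ.support := fun x => by
    rw [Equiv.Perm.mem_support, Equiv.Perm.mem_support]
    change t • y • x ≠ y • x ↔ t • x ≠ x
    rw [← mul_smul, hty, mul_smul]
    exact not_congr (smul_left_cancel_iff _)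
  have hd5 : 5 ∣ σ.support.card := by
    by_contra hnd
    obtain ⟨⟨x, hx⟩, hfx⟩ := Equiv.Perm.exists_fixed_point_of_prime (p := 5) (n := 1)
      (α := {x // x ∈ σ.support}) (by rwa [Fintype.card_coe]) (σ := τ.subtypePerm hinv) (by
        rw [Equiv.Perm.subtypePerm_pow]
        ext x : 2
        change (τ ^ (5 ^ 1)) x.1 = x.1
        rw [hτ, ← map_pow, pow_one, ← hy, pow_orderOf_eq_one, map_one]
        rfl)
    have := hyfix x (congrArg Subtype.val hfx)
    subst this
    exact Equiv.Perm.mem_support.1 hx hσx0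
  have hσ1 : σ ≠ 1 := by
    intro e
    have hker : t ∈ (MulAction.toPermHom G (G ⧸ X)).ker := e
    rcases (MulAction.toPermHom G (G ⧸ X)).normal_ker.eq_bot_or_eq_top with hk | hk
    · rw [hk, Subgroup.mem_bot] at hker; exact ht1 hker
    · have hXtop : X = ⊤ := by
        rw [Subgroup.eq_top_iff']
        intro g
        have h2 : MulAction.toPermHom G (G ⧸ X) g = 1 := MonoidHom.mem_ker.1 (hk ▸ Subgroup.mem_top g)
        have h3 : ((g * 1 : G) : G ⧸ X) = ((1 : G) : G ⧸ X) := Equiv.ext_iff.1 h2 x0
        rw [mul_one, QuotientGroup.eq, mul_one, inv_mem_iff] at h3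
        exact h3
      rw [hXtop, Subgroup.card_top, h.card] at hX120
      omega
  have hσ2 : orderOf σ = 2 := orderOf_eq_prime (by rw [hσ, ← map_pow, ← ht, pow_orderOf_eq_one, map_one]) hσ1
  obtain ⟨k, hk⟩ := Equiv.Perm.cycleType_prime_order (σ := σ) (hσ2.symm ▸ Nat.prime_two)
  have hsum := σ.sum_cycleType
  rw [hk, Multiset.sum_replicate, hσ2, smul_eq_mul] at hsum
  have hsign := sign_toPerm h.nc (G ⧸ X) t
  rw [← hσ, Equiv.Perm.sign_of_cycleType, hk, Multiset.sum_replicate, Multiset.card_replicate, hσ2, smul_eq_mul,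
    neg_one_pow_eq_one_iff_even (by decide)] at hsign
  have hlt : σ.support.card < 21 := hidx ▸ Finset.card_lt_univ_of_notMem (by
    rw [Equiv.Perm.notMem_support]; exact hσx0)
  have hs20 : σ.support.card = 20 := by
    rw [Nat.even_iff] at hsign
    omega
  have honly : ∀ x : G ⧸ X, t • x = x → x = x0 := by
    intro x hx
    by_contra hne
    have hsub : σ.support ⊆ (Finset.univ.erase x0).erase x := by
      intro z hz
      rw [Finset.mem_erase, Finset.mem_erase]
      exact ⟨fun e => Equiv.Perm.mem_support.1 hz (e ▸ hx),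
        fun e => Equiv.Perm.mem_support.1 hz (e ▸ hσx0), Finset.mem_univ _⟩
    have := Finset.card_le_card hsub
    rw [hs20, Finset.card_erase_of_mem (Finset.mem_erase.2 ⟨hne, Finset.mem_univ _⟩),
      Finset.card_erase_of_mem (Finset.mem_univ _), Finset.card_univ, hidx] at this
    omega
  -- commuting conjugates of t coincide
  have hU : ∀ g : G, g * t * g⁻¹ ∈ X → g * t * g⁻¹ = t := by
    intro g hg
    have h1 := mem_centralizer_singleton_iff.1 hg
    have h2 : t • (g : G ⧸ X) = (g : G ⧸ X) := by
      show ((t * g : G) : G ⧸ X) = (g : G)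
      rw [eq_comm, QuotientGroup.eq]
      refine mem_centralizer_singleton_iff.2 ?_
      calc g⁻¹ * (t * g) * t = g⁻¹ * (t * (g * t * g⁻¹)) * g := by group
        _ = g⁻¹ * (g * t * g⁻¹ * t) * g := by rw [h1]
        _ = t * (g⁻¹ * (t * g)) := by group
    have h3 := honly _ h2
    rw [hx0, QuotientGroup.eq, mul_one, inv_mem_iff] at h3
    exact mul_inv_eq_iff_eq_mul.2 (mem_centralizer_singleton_iff.1 h3)
  -- an element of order four
  obtain ⟨c, hc⟩ : ∃ c : G, orderOf c = 4 := by
    by_contra hno
    push Not at hno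
    have hp : IsPGroup 2 (zpowers t) := IsPGroup.of_card (n := 1) (by rw [Nat.card_zpowers, ht]; norm_num)
    obtain ⟨P, hP⟩ := hp.exists_le_sylow
    have htP : t ∈ (P : Subgroup G) := hP (mem_zpowers t)
    have hsq : ∀ x ∈ (P : Subgroup G), x * x = 1 := fun x hx => h.sq_eq_one_of hno hx
    have hcomm : ∀ a ∈ (P : Subgroup G), ∀ b ∈ (P : Subgroup G), a * b = b * a := fun a ha b hb => by
      rw [eq_inv_of_mul_eq_one_left (hsq _ (mul_mem ha hb)), mul_inv_rev, inv_eq_of_mul_eq_one_left (hsq a ha),
        inv_eq_of_mul_eq_one_left (hsq b hb)]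
    obtain ⟨a, ha, ha1, hat⟩ : ∃ a ∈ (P : Subgroup G), a ≠ 1 ∧ a ≠ t := by
      by_contra hn
      push Not at hn
      have hle : (P : Subgroup G) ≤ zpowers t := fun x hx => by
        by_cases hx1 : x = 1
        · exact hx1 ▸ one_mem _
        · exact (hn x hx hx1) ▸ mem_zpowers t
      have := Subgroup.card_le_of_le hle
      rw [h.card_sylow_two P, Nat.card_zpowers, ht] at this
      omega
    obtain ⟨b, hb, hb'⟩ : ∃ b ∈ (P : Subgroup G), ¬ (b = 1 ∨ b = a ∨ b = t ∨ b = a * t) := by
      by_contra hn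
      simp only [not_exists, not_and, not_not] at hn
      have hsub : ((P : Subgroup G) : Set G) ⊆ (({1, a, t, a * t} : Finset G) : Set G) := fun x hx => by
        rcases hn x hx with e | e | e | e <;> simp [e]
      have h1 := Set.ncard_le_ncard hsub (Finset.finite_toSet _)
      rw [Set.ncard_coe_finset, ← Nat.card_coe_set_eq] at h1
      have h2 : ({1, a, t, a * t} : Finset G).card ≤ 4 := Finset.card_le_four
      have h8 := h.card_sylow_two P
      have : Nat.card (P : Subgroup G) ≤ 4 := le_trans h1 h2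
      omega
    obtain ⟨Q, hQ4, hQmem⟩ := exists_four (hsq a ha) (hsq b hb) (hcomm a ha b hb) ha1
      (fun e => hb' (Or.inl e)) (fun e => hb' (Or.inr (Or.inl e.symm)))
    obtain ⟨g, hg⟩ := h.exists_conj_mem hQ4 ht
    have hg' := hQmem _ hg
    have hgP : g⁻¹ * t * g ∈ (P : Subgroup G) := by
      rcases hg' with e | e | e | e <;> rw [e]
      exacts [one_mem _, ha, hb, mul_mem ha hb]
    have hgt : g⁻¹ * t * g = t := by
      have := hU g⁻¹ (mem_centralizer_singleton_iff.2 (hcomm _ (by rw [inv_inv]; exact hgP) t htP))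
      rwa [inv_inv] at this
    rw [hgt] at hg'
    rcases hg' with e | e | e | e
    · exact ht1 e
    · exact hat e.symm
    · exact hb' (Or.inr (Or.inr (Or.inl e.symm)))
    · refine hb' (Or.inr (Or.inr (Or.inr ?_)))
      rw [e, ← mul_assoc, hsq a ha, one_mul]
  -- all involutions are conjugate to t
  have hall : ∀ u : G, orderOf u = 2 → ∃ g : G, g * t * g⁻¹ = u := by
    have hz : ∀ u : G, orderOf u = 2 → ∃ g : G, g⁻¹ * u * g = c ^ 2 := by
      intro u hu
      obtain ⟨g, hg⟩ := h.exists_conj_mem (show Nat.card (zpowers c) = 4 by rw [Nat.card_zpowers, hc]) hu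
      obtain ⟨i, hi, e⟩ := exists_pow_lt hg
      rw [hc] at hi
      have ho : orderOf (g⁻¹ * u * g) = 2 := by
        have := orderOf_conj g⁻¹ u; rw [inv_inv] at this; rw [this, hu]
      refine ⟨g, ?_⟩
      interval_cases i
      · rw [← e, pow_zero, orderOf_one] at ho; omega
      · rw [← e, pow_one, hc] at ho; omega
      · exact e.symm
      · rw [← e, orderOf_pow, hc] at ho; norm_num at ho
    intro u hu
    obtain ⟨g1, hg1⟩ := hz u hu
    obtain ⟨g2, hg2⟩ := hz t ht
    refine ⟨g1 * g2⁻¹, ?_⟩
    have e : u = g1 * c ^ 2 * g1⁻¹ := by rw [← hg1]; group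
    rw [e, ← hg2]; group
  have hcomm2 : ∀ u w : G, orderOf u = 2 → orderOf w = 2 → u * w = w * u → u = w := by
    intro u w hu hw huw
    obtain ⟨g, rfl⟩ := hall u hu
    obtain ⟨g', rfl⟩ := hall w hw
    have hm : (g⁻¹ * g') * t * (g⁻¹ * g')⁻¹ ∈ X := by
      refine mem_centralizer_singleton_iff.2 ?_
      generalize hw' : g' * t * g'⁻¹ = w at huw
      calc g⁻¹ * g' * t * (g⁻¹ * g')⁻¹ * t = g⁻¹ * (g' * t * g'⁻¹ * (g * t * g⁻¹)) * g := by group
        _ = g⁻¹ * (g * t * g⁻¹ * (g' * t * g'⁻¹)) * g := by rw [hw', huw]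
        _ = t * (g⁻¹ * g' * t * (g⁻¹ * g')⁻¹) := by group
    have h1 := hU _ hm
    conv_lhs => rw [← h1]
    group
  haveI := Fintype.ofFinite G
  -- even elements of a centraliser
  have heven : ∀ u : G, orderOf u = 2 → 63 ≤ Nat.card {w : centralizer ({u} : Set G) // 2 ∣ orderOf (w : G)} := by
    intro u hu
    obtain ⟨g, hg⟩ := hall u hu
    set A := centralizer ({u} : Set G) with hA
    have hAcard : Nat.card A = 120 := by
      rw [← hX120]
      refine Nat.card_congr ((MulAut.conj g).toEquiv.subtypeEquiv fun x => ?_).symm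
      rw [hA, hX]
      change x ∈ centralizer ({t} : Set G) ↔ g * x * g⁻¹ ∈ centralizer ({u} : Set G)
      rw [mem_centralizer_singleton_iff, mem_centralizer_singleton_iff, ← hg]
      constructor
      · intro hx
        calc g * x * g⁻¹ * (g * t * g⁻¹) = g * (x * t) * g⁻¹ := by group
          _ = g * (t * x) * g⁻¹ := by rw [hx]
          _ = _ := by group
      · intro hx
        calc x * t = g⁻¹ * (g * x * g⁻¹ * (g * t * g⁻¹)) * g := by group
          _ = g⁻¹ * (g * t * g⁻¹ * (g * x * g⁻¹)) * g := by rw [hx]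
          _ = t * x := by group
    have hu1 : u ∈ A := mem_centralizer_singleton_iff.2 rfl
    obtain ⟨S⟩ : Nonempty (Sylow 2 A) := Sylow.nonempty
    have hS : Nat.card (S : Subgroup A) = 8 :=
      card_sylow_of_factor (a := 3) (m := 15) S (by rw [hAcard]; norm_num) (by norm_num)
    haveI := Fintype.ofFinite A
    let O : Finset A := Finset.univ.filter fun w => ¬ 2 ∣ orderOf (w : G)
    let E : Finset A := Finset.univ.filter fun w => 2 ∣ orderOf (w : G)
    let F : Finset A := Finset.univ.filter fun w => 4 ∣ orderOf (w : G)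
    have hOE : O.card + E.card = 120 := by
      rw [← hAcard, Nat.card_eq_fintype_card, ← Finset.card_univ, add_comm]
      exact Finset.card_filter_add_card_filter_not _
    have hord : ∀ w ∈ O, orderOf ((w : G) * u) = orderOf (w : G) * 2 := fun w hw => by
      rw [(show Commute (w : G) u from mem_centralizer_singleton_iff.1 w.2).orderOf_mul_eq_mul_orderOf_of_coprime
        (by rw [hu]; exact Nat.Coprime.symm ((Nat.Prime.coprime_iff_not_dvd Nat.prime_two).2 (Finset.mem_filter.1 hw).2)), hu]
    have hF : 6 ≤ F.card := by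
      classical
      haveI := Fintype.ofFinite (S : Subgroup A)
      let T : Finset A := ((Finset.univ : Finset A).filter fun w => w ∈ (S : Subgroup A) ∧ w ≠ 1 ∧ (w : G) ≠ u)
      have hsub : T ⊆ F := by
        intro w hw
        rw [Finset.mem_filter] at hw
        refine Finset.mem_filter.2 ⟨Finset.mem_univ _, ?_⟩
        obtain ⟨k, hk⟩ := (IsPGroup.iff_orderOf.1 S.2) ⟨w, hw.2.1⟩
        rw [Subgroup.orderOf_mk, ← Subgroup.orderOf_coe] at hk
        rcases k with _ | _ | k
        · exact absurd (Subtype.ext (orderOf_eq_one_iff.1 hk)) hw.2.2.1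
        · exact absurd (hcomm2 _ _ (by rw [hk]; rfl) hu (mem_centralizer_singleton_iff.1 w.2)) hw.2.2.2
        · rw [hk, pow_succ, pow_succ, mul_assoc]; exact dvd_mul_left 4 _
      refine le_trans ?_ (Finset.card_le_card hsub)
      have hsub2 : (Finset.univ.filter fun w : A => w ∈ (S : Subgroup A)) ⊆ insert 1 (insert ⟨u, hu1⟩ T) := by
        intro w hw
        by_cases h1 : w = 1
        · exact h1 ▸ Finset.mem_insert_self _ _
        by_cases h2 : (w : G) = u
        · exact Finset.mem_insert_of_mem (Finset.mem_insert.2 (Or.inl (Subtype.ext h2)))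
        exact Finset.mem_insert_of_mem (Finset.mem_insert_of_mem
          (Finset.mem_filter.2 ⟨Finset.mem_univ _, (Finset.mem_filter.1 hw).2, h1, h2⟩))
      have h1 := Finset.card_le_card hsub2
      have h2 : (Finset.univ.filter fun w : A => w ∈ (S : Subgroup A)).card = 8 := by
        rw [← hS, Nat.card_eq_fintype_card, Fintype.card_subtype]
      have h3 := Finset.card_insert_le (1 : A) (insert ⟨u, hu1⟩ T)
      have h4 := Finset.card_insert_le (⟨u, hu1⟩ : A) T
      omega
    have hsub : O.image (fun w => w * ⟨u, hu1⟩) ∪ F ⊆ E := by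
      intro z hz
      rcases Finset.mem_union.1 hz with hz | hz
      · obtain ⟨w, hw, rfl⟩ := Finset.mem_image.1 hz
        exact Finset.mem_filter.2 ⟨Finset.mem_univ _, ⟨orderOf (w : G), by
          rw [mul_comm 2, ← hord w hw]; rfl⟩⟩
      · exact Finset.mem_filter.2 ⟨Finset.mem_univ _, (show 2 ∣ 4 by norm_num).trans (Finset.mem_filter.1 hz).2⟩
    have hdisj : Disjoint (O.image (fun w => w * ⟨u, hu1⟩)) F := by
      rw [Finset.disjoint_left]
      intro z hz hzF
      obtain ⟨w, hw, rfl⟩ := Finset.mem_image.1 hz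
      have h4 : 4 ∣ orderOf ((w : G) * u) := (Finset.mem_filter.1 hzF).2
      rw [hord w hw] at h4
      exact (Finset.mem_filter.1 hw).2 (Nat.dvd_of_mul_dvd_mul_right (by norm_num : 0 < 2) (show 2 * 2 ∣ orderOf (w : G) * 2 from h4))
    have hle := Finset.card_le_card hsub
    rw [Finset.card_union_of_disjoint hdisj, Finset.card_image_of_injective _ (mul_left_injective _)] at hle
    rw [Nat.card_eq_fintype_card, Fintype.card_subtype]
    change 63 ≤ E.card
    omega
  -- count
  obtain ⟨h5', h7'⟩ := h.card_five_seven_ge hy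
  have hinvol : 21 ≤ Nat.card {u : G // orderOf u = 2} := by
    have hcls := card_conj_mul_card_centralizer t
    rw [← hX, hX120, h.card] at hcls
    refine le_trans (by omega) (Nat.card_le_card_of_injective
      (fun g : {g : G // IsConj t g} => (⟨g.1, by
        obtain ⟨a, ha⟩ := isConj_iff.1 g.2
        rw [← ha, orderOf_conj, ht]⟩ : {u : G // orderOf u = 2})) fun a b e => Subtype.ext (congrArg Subtype.val e :))
  let Ev := {w : G // 2 ∣ orderOf w}
  have hEv : 1323 ≤ Nat.card Ev := by
    let f : (Σ u : {u : G // orderOf u = 2}, {w : centralizer ({(u : G)} : Set G) // 2 ∣ orderOf (w : G)}) → Ev :=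
      fun z => ⟨(z.2.1 : G), z.2.2⟩
    have hf : Function.Injective f := by
      rintro ⟨u, w⟩ ⟨u', w'⟩ e
      have e' : (w.1 : G) = (w'.1 : G) := congrArg Subtype.val e
      set z := (w.1 : G) ^ (orderOf (w.1 : G) / 2) with hzdef
      have hz : orderOf z = 2 := by
        rw [hzdef, orderOf_pow_of_dvd (by
          have := orderOf_pos (w.1 : G); obtain ⟨k, hk⟩ := w.2; omega)
          (Nat.div_dvd_of_dvd w.2), Nat.div_div_self w.2 (orderOf_pos _).ne']
      have c1 : z = (u : G) := hcomm2 _ _ hz u.2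
        (Commute.pow_left (mem_centralizer_singleton_iff.1 w.1.2) _).eq
      have c2 : z = (u' : G) := hcomm2 _ _ hz u'.2
        (Commute.pow_left (show Commute (w.1 : G) (u' : G) from e' ▸ mem_centralizer_singleton_iff.1 w'.1.2) _).eq
      obtain rfl : u = u' := Subtype.ext (c1.symm.trans c2)
      exact Sigma.ext rfl (heq_of_eq (Subtype.ext (Subtype.ext e')))
    haveI := Fintype.ofFinite {u : G // orderOf u = 2}
    refine le_trans ?_ (Nat.card_le_card_of_injective f hf)
    rw [Nat.card_sigma]
    refine le_trans ?_ (Finset.card_nsmul_le_sum _ _ 63 fun u _ => heven _ u.2)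
    rw [Finset.card_univ, ← Nat.card_eq_fintype_card, smul_eq_mul]
    exact le_trans (by norm_num) (Nat.mul_le_mul_right 63 hinvol)
  let f : Ev ⊕ ({g : G // orderOf g = 5} ⊕ {g : G // orderOf g = 7}) → G :=
    Sum.elim Subtype.val (Sum.elim Subtype.val Subtype.val)
  have hf : Function.Injective f := by
    rintro (⟨a, ha⟩ | ⟨a, ha⟩ | ⟨a, ha⟩) (⟨b, hb⟩ | ⟨b, hb⟩ | ⟨b, hb⟩) e <;>
      simp only [f, Sum.elim_inl, Sum.elim_inr] at e <;> subst e <;>
      first | rfl | omega
  have htot := Nat.card_le_card_of_injective f hf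
  rw [Nat.card_sum, Nat.card_sum, h.card] at htot
  omega

/-- There is an element of order five. -/
theorem exists_orderOf_five (h : Hyp G) : ∃ y : G, orderOf y = 5 := by
  haveI : Fact (Nat.Prime 5) := ⟨by norm_num⟩
  exact exists_prime_orderOf_dvd_card' 5 (by rw [h.card]; norm_num)

/-- There is an element of order four. -/
theorem exists_orderOf_four (h : Hyp G) : ∃ c : G, orderOf c = 4 := by
  classical
  haveI : Fact (Nat.Prime 5) := ⟨by norm_num⟩
  haveI : Fact (Nat.Prime 2) := ⟨Nat.prime_two⟩
  obtain ⟨y, hy⟩ := h.exists_orderOf_five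
  obtain ⟨N', C', hN', -, hcase, -⟩ := h.five_data hy
  have hne := h.normalizer_five_ne hy
  have hN : Nat.card (normalizer (zpowers y : Set G)) = 20 := by omega
  obtain ⟨S⟩ : Nonempty (Sylow 2 (normalizer (zpowers y : Set G))) := Sylow.nonempty
  have hS : Nat.card (S : Subgroup (normalizer (zpowers y : Set G))) = 4 :=
    card_sylow_of_factor (a := 2) (m := 5) S (by rw [hN]; norm_num) (by norm_num)
  have hcyc : IsCyclic (S : Subgroup (normalizer (zpowers y : Set G))) := by
    -- the action on the group of order five is faithful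
    let φ := (zpowers y).normalizerMonoidHom.comp (S : Subgroup (normalizer (zpowers y : Set G))).subtype
    haveI : IsCyclic (zpowers y) := inferInstance
    haveI : IsCyclic (ZMod (Nat.card (zpowers y)))ˣ := by
      rw [Nat.card_zpowers, hy]; infer_instance
    haveI : IsCyclic (MulAut (zpowers y)) := (IsCyclic.mulAutMulEquiv (zpowers y)).isCyclic.2 ‹_›
    refine isCyclic_of_injective φ ?_
    rw [injective_iff_map_eq_one]
    intro a ha
    have h1 : (a : normalizer (zpowers y : Set G)) ∈ (zpowers y).normalizerMonoidHom.ker := ha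
    rw [Subgroup.normalizerMonoidHom_ker, Subgroup.mem_subgroupOf] at h1
    have h1' : ((a : normalizer (zpowers y : Set G)) : G) ∈ centralizer ({y} : Set G) :=
      mem_centralizer_singleton_iff.2 (mem_centralizer_iff.1 h1 y (mem_zpowers y)).symm
    have hd := orderOf_dvd_natCard (⟨_, h1'⟩ : centralizer ({y} : Set G))
    rw [Subgroup.orderOf_mk, h.card_centralizer_five hy, Subgroup.orderOf_coe, Subgroup.orderOf_coe] at hd
    have hd4 : orderOf a ∣ 4 := hS ▸ orderOf_dvd_natCard a
    exact orderOf_eq_one_iff.1 (Nat.eq_one_of_dvd_coprimes (show Nat.Coprime 4 5 by norm_num) hd4 hd)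
  obtain ⟨g, hg⟩ := hcyc.exists_generator
  exact ⟨((g : normalizer (zpowers y : Set G)) : G), by
    rw [Subgroup.orderOf_coe, Subgroup.orderOf_coe, orderOf_eq_card_of_forall_mem_zpowers hg, hS]⟩

end Hyp

end Cfsg.Lib.AltSeven
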