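import Cfsg.Agent.Small.AltSeven.FiveTen

/-!
Sylow 3-subgroups and centralisers of involutions.
-/

set_option autoImplicit false
set_option linter.unusedSectionVars false
set_option linter.style.haveILetI false

namespace Cfsg.Lib.AltSeven

open Subgroup Cfsg.Lib.Small

variable {G : Type*} [Group G] [Finite G] [IsSimpleGroup G]

set_option synthInstance.maxSize 1000 in
theorem sylow_counts_three : ∀ n ≤ 280, n ∣ 280 → n % 3 = 1 →
    n = 1 ∨ n = 4 ∨ n = 7 ∨ n = 10 ∨ n = 28 ∨ n = 40 ∨ n = 70 ∨ n = 280 := by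
  decide +kernel

namespace Hyp

/-- There is one class of involutions. -/
theorem exists_conj_involution (h : Hyp G) {t u : G} (ht : orderOf t = 2) (hu : orderOf u = 2) :
    ∃ g : G, g * t * g⁻¹ = u := by
  obtain ⟨c, hc⟩ := h.exists_orderOf_four
  have hz : ∀ w : G, orderOf w = 2 → ∃ g : G, g⁻¹ * w * g = c ^ 2 := by
    intro w hw
    obtain ⟨g, hg⟩ := h.exists_conj_mem (show Nat.card (zpowers c) = 4 by rw [Nat.card_zpowers, hc]) hw
    obtain ⟨i, hi, e⟩ := exists_pow_lt hg
    rw [hc] at hi
    have ho : orderOf (g⁻¹ * w * g) = 2 := by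
      have := orderOf_conj g⁻¹ w; rw [inv_inv] at this; rw [this, hw]
    refine ⟨g, ?_⟩
    interval_cases i
    · rw [← e, pow_zero, orderOf_one] at ho; omega
    · rw [← e, pow_one, hc] at ho; omega
    · exact e.symm
    · rw [← e, orderOf_pow, hc] at ho; norm_num at ho
  obtain ⟨g1, hg1⟩ := hz u hu
  obtain ⟨g2, hg2⟩ := hz t ht
  refine ⟨g1 * g2⁻¹, ?_⟩
  have e : u = g1 * c ^ 2 * g1⁻¹ := by rw [← hg1]; group
  rw [e, ← hg2]; group

theorem ne_one_of_orderOf {x : G} {n : ℕ} (hx : orderOf x = n) (hn : n ≠ 1) : x ≠ 1 :=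
  fun e => hn (by rw [← hx, e, orderOf_one])

/-- No element of order five commutes with an element of order two or three. -/
theorem not_five_dvd_centralizer (h : Hyp G) {u : G} (hu : orderOf u = 2 ∨ orderOf u = 3) :
    ¬ 5 ∣ Nat.card (centralizer ({u} : Set G)) := by
  intro hd
  haveI : Fact (Nat.Prime 5) := ⟨by norm_num⟩
  obtain ⟨x, hx⟩ := exists_prime_orderOf_dvd_card' (G := centralizer ({u} : Set G)) 5 hd
  have hx5 : orderOf (x : G) = 5 := by rw [Subgroup.orderOf_coe]; exact hx
  have hm : u ∈ centralizer ({(x : G)} : Set G) :=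
    mem_centralizer_singleton_iff.2 (mem_centralizer_singleton_iff.1 x.2).symm
  have hdv := orderOf_dvd_natCard (⟨u, hm⟩ : centralizer ({(x : G)} : Set G))
  rw [Subgroup.orderOf_mk, h.card_centralizer_five hx5] at hdv
  rcases hu with e | e <;> rw [e] at hdv <;> omega

theorem card_normalizer_three (h : Hyp G) [Fact (Nat.Prime 3)] (P : Sylow 3 G) :
    Nat.card (normalizer ((P : Subgroup G) : Set G)) = 36 := by
  have hd3 : 3 ∣ Nat.card G := by rw [h.card]; norm_num
  have hP : Nat.card (P : Subgroup G) = 9 := h.card_sylow_three P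
  obtain ⟨hd, hmod⟩ := sylow_facts (a := 2) (m := 280) P (by rw [h.card]; norm_num) (by norm_num)
  set N := normalizer ((P : Subgroup G) : Set G) with hNdef
  have hm := card_normalizer_mul P
  rw [← hNdef, h.card] at hm
  have hle := h.card_normalizer_le (K := (P : Subgroup G))
    (fun e => by rw [e, Subgroup.card_bot] at hP; omega) (by rw [hP]; norm_num)
  rw [← hNdef] at hle
  have h5 : ¬ 5 ∣ Nat.card N := h.not_five_dvd_normalizer hP
  have h7 : ¬ 7 ∣ Nat.card N := by
    intro hd7
    haveI : Fact (Nat.Prime 7) := ⟨by norm_num⟩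
    obtain ⟨x, hx⟩ := exists_prime_orderOf_dvd_card' (G := N) 7 hd7
    have hx7 : orderOf (x : G) = 7 := by rw [Subgroup.orderOf_coe]; exact hx
    have hc := centralizes_nine hP (Or.inr rfl) hx7 x.2
    have h9 : 9 ∣ Nat.card (centralizer ({(x : G)} : Set G)) :=
      hP.symm.dvd.trans (Subgroup.card_dvd_of_le fun a ha => mem_centralizer_singleton_iff.2 (mem_centralizer_iff.1 hc a ha))
    rw [h.card_centralizer_seven hx7] at h9
    omega
  rcases sylow_counts_three _ (Nat.le_of_dvd (by norm_num) hd) hd hmod with e | e | e | e | e | e | e | e <;>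
    rw [e] at hm
  all_goals try omega
  exfalso
  have hN : Nat.card N = 9 := by omega
  refine not_normalizer_le_centralizer h.nc hd3 P ?_
  intro a ha'
  have ha : a ∈ (P : Subgroup G) :=
    (Subgroup.eq_of_le_of_card_ge (le_normalizer : (P : Subgroup G) ≤ N) (by rw [hN, hP])).ge ha'
  exact mem_centralizer_iff.2 fun b hb => congrArg Subtype.val
    (IsPGroup.commutative_of_card_eq_prime_sq (p := 3) (show Nat.card (P : Subgroup G) = 3 ^ 2 by rw [hP]; norm_num)
      ⟨b, hb⟩ ⟨a, ha⟩)

theorem sylow_three_comm (h : Hyp G) [Fact (Nat.Prime 3)] (P : Sylow 3 G) {a b : G} (ha : a ∈ (P : Subgroup G))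
    (hb : b ∈ (P : Subgroup G)) : a * b = b * a :=
  congrArg Subtype.val (IsPGroup.commutative_of_card_eq_prime_sq (p := 3)
    (show Nat.card (P : Subgroup G) = 3 ^ 2 by rw [h.card_sylow_three P]; norm_num) ⟨a, ha⟩ ⟨b, hb⟩)

/-- A Sylow 3-subgroup is its own centraliser. -/
theorem centralizer_sylow_three (h : Hyp G) [Fact (Nat.Prime 3)] (P : Sylow 3 G) :
    centralizer ((P : Subgroup G) : Set G) = (P : Subgroup G) := by
  haveI : Fact (Nat.Prime 2) := ⟨Nat.prime_two⟩
  have hd3 : 3 ∣ Nat.card G := by rw [h.card]; norm_num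
  set C := centralizer ((P : Subgroup G) : Set G) with hCdef
  set N := normalizer ((P : Subgroup G) : Set G) with hNdef
  have hP : Nat.card (P : Subgroup G) = 9 := h.card_sylow_three P
  have hPC : (P : Subgroup G) ≤ C := fun a ha => mem_centralizer_iff.2 fun b hb => h.sylow_three_comm P hb ha
  have hCN : C ≤ N := centralizer_le_normalizer _
  refine (Subgroup.eq_of_le_of_card_ge hPC ?_).symm
  rw [hP]
  by_contra hlt
  obtain ⟨k, hk⟩ := hP ▸ Subgroup.card_dvd_of_le hPC
  have hd : 9 * k ∣ 36 := by rw [← hk, ← h.card_normalizer_three P]; exact Subgroup.card_dvd_of_le hCN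
  have hk4 : k ∣ 4 := Nat.dvd_of_mul_dvd_mul_left (by norm_num : 0 < 9) (show 9 * k ∣ 9 * 4 from hd)
  have hk1 : k ≠ 1 := fun e => hlt (by rw [hk, e])
  obtain ⟨i, hi, rfl⟩ := (Nat.dvd_prime_pow Nat.prime_two).1 (show k ∣ 2 ^ 2 from hk4)
  rcases i with _ | _ | i
  · exact hk1 rfl
  · -- order eighteen: a single involution
    obtain ⟨u, hu⟩ := exists_prime_orderOf_dvd_card' (G := C) 2 (by rw [hk]; norm_num)
    have hu2 : orderOf (u : G) = 2 := by rw [Subgroup.orderOf_coe]; exact hu
    obtain ⟨U, hU⟩ := (IsPGroup.of_card (G := zpowers u) (n := 1) (by rw [Nat.card_zpowers, hu]; norm_num)).exists_le_sylow (p := 2)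
    have hU2 : Nat.card (U : Subgroup C) = 2 :=
      card_sylow_of_factor (a := 1) (m := 9) U (by rw [hk]; norm_num) (by norm_num)
    have hUeq : zpowers u = (U : Subgroup C) := Subgroup.eq_of_le_of_card_ge hU (by rw [hU2, Nat.card_zpowers, hu])
    have hcomm : ∀ w : C, orderOf w = 2 → w = u := by
      intro w hw
      have hn : w ∈ normalizer ((U : Subgroup C) : Set C) := by
        -- C = P ⊔ U normalises U
        suffices normalizer ((U : Subgroup C) : Set C) = ⊤ by rw [this]; exact mem_top _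
        refine Subgroup.eq_top_of_card_eq _ ?_
        have h9 : 9 ∣ Nat.card (normalizer ((U : Subgroup C) : Set C)) := by
          rw [← hP, ← Nat.card_congr (subgroupOfEquivOfLe hPC).toEquiv]
          refine Subgroup.card_dvd_of_le fun a ha => centralizer_le_normalizer _ ?_
          rw [← hUeq, zpowers_eq_closure, centralizer_closure]
          exact mem_centralizer_singleton_iff.2 (Subtype.ext (mem_centralizer_iff.1 u.2 (a : G) ha))
        have h2 : 2 ∣ Nat.card (normalizer ((U : Subgroup C) : Set C)) :=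
          hU2.symm.dvd.trans (Subgroup.card_dvd_of_le le_normalizer)
        have h18 := Nat.le_of_dvd Nat.card_pos (Nat.Coprime.mul_dvd_of_dvd_of_dvd (show Nat.Coprime 2 9 by norm_num) h2 h9)
        have := Subgroup.card_le_card_group (normalizer ((U : Subgroup C) : Set C))
        rw [hk] at this ⊢
        omega
      obtain ⟨j, hj, e⟩ := exists_pow_lt (show w ∈ zpowers u by rw [hUeq]; exact mem_sylow_of_orderOf U hw hn)
      rw [hu] at hj
      interval_cases j
      · rw [pow_zero] at e; rw [← e, orderOf_one] at hw; omega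
      · rw [← e, pow_one]
    have hNu : N ≤ centralizer ({(u : G)} : Set G) := by
      intro n hn
      have hm : n * (u : G) * n⁻¹ ∈ C := by
        refine mem_centralizer_iff.2 fun a ha => ?_
        have ha' : n⁻¹ * a * n⁻¹⁻¹ ∈ (P : Subgroup G) := conj_mem_of_normalizer (inv_mem hn) ha
        rw [inv_inv] at ha'
        have h1 := mem_centralizer_iff.1 u.2 (n⁻¹ * a * n) ha'
        calc a * (n * u * n⁻¹) = n * (n⁻¹ * a * n * u) * n⁻¹ := by group
          _ = n * ((u : G) * (n⁻¹ * a * n)) * n⁻¹ := by rw [h1]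
          _ = n * u * n⁻¹ * a := by group
      have := hcomm ⟨_, hm⟩ (by rw [Subgroup.orderOf_mk, orderOf_conj, hu2])
      exact mem_centralizer_singleton_iff.2 (mul_inv_eq_iff_eq_mul.1 (congrArg Subtype.val this))
    set A := centralizer ({(u : G)} : Set G) with hA
    have hA315 : Nat.card A ≤ 315 := h.card_centralizer_le (ne_one_of_orderOf hu2 (by norm_num))
    have h36 : 36 ∣ Nat.card A := h.card_normalizer_three P ▸ Subgroup.card_dvd_of_le hNu
    have h8 := h.eight_dvd hu2
    have h5 := h.not_five_dvd_centralizer (Or.inl hu2)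
    have h7 := h.not_seven_dvd_centralizer (u := (u : G)) (by simp [hu2])
    rw [← hA] at h8 h5 h7
    obtain ⟨n, hn3, hn2, -⟩ := exists_card_eq_mul_inf_normalizer P (le_normalizer.trans hNu)
    rw [← hNdef, inf_eq_right.2 hNu, h.card_normalizer_three P] at hn2
    have hdA : Nat.card A ∣ 2520 := dvd_card_of h.card A
    rw [hn2] at hdA hA315 h8 h5 h7
    have hn70 : n ∣ 70 :=
      Nat.dvd_of_mul_dvd_mul_left (by norm_num : 0 < 36) (show 36 * n ∣ 36 * 70 by rw [mul_comm]; exact hdA)
    have : n ≤ 8 := by omega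
    interval_cases n <;> omega
  · rw [show i = 0 by omega] at hk
    exact not_normalizer_le_centralizer h.nc hd3 P
      (le_of_eq (Subgroup.eq_of_le_of_card_ge hCN (by rw [hk, h.card_normalizer_three P]; norm_num)).symm)

/-- The number of involutions times the order of a centraliser. -/
theorem card_involutions_mul (h : Hyp G) {t : G} (ht : orderOf t = 2) :
    Nat.card {u : G // orderOf u = 2} * Nat.card (centralizer ({t} : Set G)) = 2520 := by
  rw [← h.card, ← card_conj_mul_card_centralizer t]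
  congr 1
  refine Nat.card_congr (Equiv.subtypeEquivRight fun u => ⟨fun hu => isConj_iff.2 (h.exists_conj_involution ht hu),
    fun hu => ?_⟩)
  obtain ⟨a, rfl⟩ := isConj_iff.1 hu
  rw [orderOf_conj, ht]

/-- Lower bound for elements whose power is a given involution, by conjugation. -/
theorem sigma_bound (h : Hyp G) {t : G} (ht : orderOf t = 2) (Φ : G → G → Prop) (n : ℕ)
    (hΦ : ∀ g u w, Φ u w → Φ (g * u * g⁻¹) (g * w * g⁻¹)) (hn : n ≤ Nat.card {w : G // Φ t w}) :
    Nat.card {u : G // orderOf u = 2} * n ≤ Nat.card (Σ u : {u : G // orderOf u = 2}, {w : G // Φ u w}) := by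
  haveI := Fintype.ofFinite {u : G // orderOf u = 2}
  rw [Nat.card_sigma]
  refine le_trans ?_ (Finset.card_nsmul_le_sum _ _ n fun u _ => ?_)
  · rw [Finset.card_univ, ← Nat.card_eq_fintype_card, smul_eq_mul]
  · obtain ⟨g, hg⟩ := h.exists_conj_involution ht u.2
    exact hn.trans (Nat.card_le_card_of_injective (fun w : {w : G // Φ t w} =>
      (⟨g * w.1 * g⁻¹, hg ▸ hΦ g t w.1 w.2⟩ : {w : G // Φ u w}))
      fun a b e => Subtype.ext (by simpa using congrArg Subtype.val e))

/-- A square root of an involution generates a cyclic group of order four. -/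
theorem orderOf_eq_four {w t : G} (ht : orderOf t = 2) (hw : w ^ 2 = t) : orderOf w = 4 := by
  have := orderOf_eq_prime_pow (p := 2) (n := 1) (x := w) (by rw [pow_one, hw]; exact ne_one_of_orderOf ht (by norm_num))
    (by rw [show 2 ^ (1 + 1) = 2 * 2 by norm_num, pow_mul, hw, ← ht, pow_orderOf_eq_one])
  simpa using this

/-- The centraliser of an involution has order twenty-four. -/
theorem card_centralizer_two (h : Hyp G) {t : G} (ht : orderOf t = 2) :
    Nat.card (centralizer ({t} : Set G)) = 24 := by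
  classical
  haveI : Fact (Nat.Prime 3) := ⟨Nat.prime_three⟩
  haveI : Fact (Nat.Prime 2) := ⟨Nat.prime_two⟩
  set C := centralizer ({t} : Set G) with hC
  obtain ⟨j, hj⟩ := h.eight_dvd ht
  rw [← hC] at hj
  have h5 := h.not_five_dvd_centralizer (Or.inl ht)
  have h7 := h.not_seven_dvd_centralizer (u := t) (by simp [ht])
  rw [← hC] at h5 h7
  have hd : Nat.card C ∣ 2520 := dvd_card_of h.card C
  rw [hj] at hd h5 h7
  have hj315 : j ∣ 315 := Nat.dvd_of_mul_dvd_mul_left (by norm_num : 0 < 8) (show 8 * j ∣ 8 * 315 from hd)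
  have hj35 : Nat.Coprime j 35 := Nat.Coprime.mul_right
    ((Nat.Prime.coprime_iff_not_dvd (show Nat.Prime 5 by norm_num)).2 fun e => h5 (e.mul_left 8)).symm
    ((Nat.Prime.coprime_iff_not_dvd (show Nat.Prime 7 by norm_num)).2 fun e => h7 (e.mul_left 8)).symm
  have hj9 : j ∣ 3 ^ 2 := hj35.dvd_of_dvd_mul_right (show j ∣ 9 * 35 from hj315)
  obtain ⟨i, hi, rfl⟩ := (Nat.dvd_prime_pow Nat.prime_three).1 hj9
  interval_cases i
  · exfalso
    obtain ⟨y, hy⟩ := h.exists_orderOf_five
    obtain ⟨h5', h7'⟩ := h.card_five_seven_ge hy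
    have hI : 315 = Nat.card {u : G // orderOf u = 2} := by
      have := h.card_involutions_mul ht
      rw [← hC, hj] at this
      omega
    -- centralisers of non-trivial elements of the Sylow 3-subgroups
    have hdisj : ∀ (P Q : Sylow 3 G) (k : G), k ∈ (P : Subgroup G) → k ∈ (Q : Subgroup G) → k ≠ 1 → P = Q := by
      intro P Q k hkP hkQ hk1
      obtain ⟨e, he⟩ : ∃ e : G, e ∈ zpowers k ∧ orderOf e = 3 := by
        obtain ⟨n, hn⟩ := (IsPGroup.iff_orderOf.1 P.2) ⟨k, hkP⟩
        rw [Subgroup.orderOf_mk] at hn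
        obtain ⟨m, rfl⟩ : ∃ m, n = m + 1 := ⟨n - 1, by
          rcases n with _ | n
          · exact absurd (orderOf_eq_one_iff.1 hn) hk1
          · omega⟩
        refine ⟨k ^ 3 ^ m, pow_mem (mem_zpowers k) _, ?_⟩
        rw [orderOf_pow_of_dvd (by positivity) (hn ▸ pow_dvd_pow 3 (by omega)), hn, pow_succ,
          Nat.mul_div_cancel_left _ (by positivity)]
      have hodd : ¬ 2 ∣ Nat.card (centralizer ({e} : Set G)) := by
        intro hd2
        obtain ⟨u, hu⟩ := exists_prime_orderOf_dvd_card' (G := centralizer ({e} : Set G)) 2 hd2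
        have hu2 : orderOf (u : G) = 2 := by rw [Subgroup.orderOf_coe]; exact hu
        have hm : e ∈ centralizer ({(u : G)} : Set G) :=
          mem_centralizer_singleton_iff.2 (mem_centralizer_singleton_iff.1 u.2).symm
        have h3 := orderOf_dvd_natCard (⟨e, hm⟩ : centralizer ({(u : G)} : Set G))
        rw [Subgroup.orderOf_mk, he.2] at h3
        have h24 := h.card_involutions_mul hu2
        rw [← hI] at h24
        omega
      have hPe : ∀ R : Sylow 3 G, k ∈ (R : Subgroup G) → (R : Subgroup G) = centralizer ({e} : Set G) := by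
        intro R hR
        have hle : (R : Subgroup G) ≤ centralizer ({e} : Set G) := fun a ha =>
          mem_centralizer_singleton_iff.2 (h.sylow_three_comm R ha ((zpowers_le.2 hR) he.1))
        refine Subgroup.eq_of_le_of_card_ge hle ?_
        rw [h.card_sylow_three R]
        obtain ⟨m, hm⟩ := (h.card_sylow_three R).symm.dvd.trans (Subgroup.card_dvd_of_le hle)
        have hd' := dvd_card_of h.card (centralizer ({e} : Set G))
        have h5' := h.not_five_dvd_centralizer (Or.inr he.2)
        have h7' := h.not_seven_dvd_centralizer (u := e) (by simp [he.2])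
        rw [hm] at hd' h5' h7' hodd ⊢
        have hm280 : m ∣ 280 := Nat.dvd_of_mul_dvd_mul_left (by norm_num : 0 < 9) (show 9 * m ∣ 9 * 280 from hd')
        have hc8 : Nat.Coprime m 8 := (Nat.Coprime.pow_left 3
          ((Nat.Prime.coprime_iff_not_dvd Nat.prime_two).2 fun e => hodd (e.mul_left 9))).symm
        have hm35 : m ∣ 35 := hc8.dvd_of_dvd_mul_left (show m ∣ 8 * 35 from hm280)
        have : m = 1 := by
          have hc : Nat.Coprime m 35 := Nat.Coprime.mul_right
            ((Nat.Prime.coprime_iff_not_dvd (show Nat.Prime 5 by norm_num)).2 fun e => h5' (e.mul_left 9)).symm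
            ((Nat.Prime.coprime_iff_not_dvd (show Nat.Prime 7 by norm_num)).2 fun e => h7' (e.mul_left 9)).symm
          exact hc.eq_one_of_dvd hm35
        rw [this, mul_one]
      exact Sylow.ext ((hPe P hkP).trans (hPe Q hkQ).symm)
    let T := {g : G // g ≠ 1 ∧ ∃ P : Sylow 3 G, g ∈ (P : Subgroup G)}
    have hT : 560 ≤ Nat.card T := by
      let f : (Σ P : Sylow 3 G, {x : (P : Subgroup G) // x ≠ 1}) → T :=
        fun z => ⟨(z.2.1 : G), fun e => z.2.2 (Subtype.ext e), z.1, z.2.1.2⟩
      have hf : Function.Injective f := by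
        rintro ⟨P, x⟩ ⟨Q, z⟩ e
        have e' : (x.1 : G) = (z.1 : G) := congrArg Subtype.val e
        obtain rfl : P = Q := hdisj P Q _ x.1.2 (e' ▸ z.1.2) fun e1 => x.2 (Subtype.ext e1)
        exact Sigma.ext rfl (heq_of_eq (Subtype.ext (Subtype.ext e')))
      haveI := Fintype.ofFinite (Sylow 3 G)
      refine le_trans ?_ (Nat.card_le_card_of_injective f hf)
      rw [Nat.card_sigma]
      have h8 : ∀ P : Sylow 3 G, Nat.card {x : (P : Subgroup G) // x ≠ 1} = 8 := fun P => by
        haveI := Fintype.ofFinite (P : Subgroup G)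
        rw [Nat.card_eq_fintype_card, Fintype.card_subtype_compl, Fintype.card_subtype_eq,
          ← Nat.card_eq_fintype_card, h.card_sylow_three P]
      rw [Finset.sum_congr rfl fun P _ => h8 P, Finset.sum_const, Finset.card_univ, smul_eq_mul,
        ← Nat.card_eq_fintype_card]
      obtain ⟨P⟩ : Nonempty (Sylow 3 G) := Sylow.nonempty
      have := card_normalizer_mul P
      rw [h.card_normalizer_three P, h.card] at this
      omega
    -- square roots of involutions
    obtain ⟨c, hc⟩ := h.exists_orderOf_four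
    have hc2 : orderOf (c ^ 2) = 2 := by rw [orderOf_pow, hc]; rfl
    have hcne : c ≠ c⁻¹ := fun e => by
      have : c ^ 2 = 1 := by rw [pow_two]; nth_rewrite 2 [e]; exact mul_inv_cancel c
      exact ne_one_of_orderOf hc2 (by norm_num) this
    have hcinv : (c⁻¹) ^ 2 = c ^ 2 := by
      rw [inv_pow, inv_eq_of_mul_eq_one_left (show c ^ 2 * c ^ 2 = 1 by rw [← pow_add, show 2 + 2 = 4 from rfl, ← hc, pow_orderOf_eq_one])]
    have hW := h.sigma_bound hc2 (fun u w => w ^ 2 = u) 2 (fun g u w e => by rw [conj_pow, e]) (by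
      refine le_trans (le_of_eq ?_) (Nat.card_le_card_of_injective
        (fun i : Bool => (if i then ⟨c, rfl⟩ else ⟨c⁻¹, hcinv⟩ : {w : G // w ^ 2 = c ^ 2})) ?_)
      · simp
      · intro a b e
        cases a <;> cases b <;> simp at e ⊢
        · exact hcne e.symm
        · exact hcne e)
    let f : {g : G // orderOf g = 5} ⊕ {g : G // orderOf g = 7} ⊕ T ⊕ {u : G // orderOf u = 2} ⊕
        (Σ u : {u : G // orderOf u = 2}, {w : G // w ^ 2 = (u : G)}) → G :=
      Sum.elim Subtype.val (Sum.elim Subtype.val (Sum.elim Subtype.val (Sum.elim Subtype.val fun z => z.2.1)))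
    have h3pow : ∀ a : T, ∃ n, orderOf (a : G) = 3 ^ n := fun a => by
      obtain ⟨P, hP⟩ := a.2.2
      obtain ⟨n, hn⟩ := (IsPGroup.iff_orderOf.1 P.2) ⟨_, hP⟩
      exact ⟨n, by rwa [Subgroup.orderOf_mk] at hn⟩
    have hT' : ∀ a : T, ¬ 5 ∣ orderOf (a : G) ∧ ¬ 7 ∣ orderOf (a : G) ∧ ¬ 2 ∣ orderOf (a : G) := fun a => by
      obtain ⟨n, hn⟩ := h3pow a
      rw [hn]
      refine ⟨fun e => ?_, fun e => ?_, fun e => ?_⟩
      · exact absurd ((show Nat.Prime 5 by norm_num).dvd_of_dvd_pow e) (by norm_num)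
      · exact absurd ((show Nat.Prime 7 by norm_num).dvd_of_dvd_pow e) (by norm_num)
      · exact absurd (Nat.prime_two.dvd_of_dvd_pow e) (by norm_num)
    have hf : Function.Injective f := by
      rintro (⟨a, ha⟩ | ⟨a, ha⟩ | a | ⟨a, ha⟩ | ⟨u, a, ha⟩) (⟨b, hb⟩ | ⟨b, hb⟩ | b | ⟨b, hb⟩ | ⟨v, b, hb⟩) e <;>
        simp only [f, Sum.elim_inl, Sum.elim_inr] at e
      all_goals first
        | (subst e; rfl)
        | (exfalso; have e5 := congrArg orderOf e; first
            | (rw [ha, hb] at e5; omega)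
            | (rw [ha, orderOf_eq_four v.2 hb] at e5; omega)
            | (rw [hb, orderOf_eq_four u.2 ha] at e5; omega)
            | (obtain ⟨p1, p2, p3⟩ := hT' a; rw [e5] at p1 p2 p3
               first | (rw [hb] at p1 p2 p3; omega) | (rw [orderOf_eq_four v.2 hb] at p3; omega))
            | (obtain ⟨p1, p2, p3⟩ := hT' b; rw [← e5] at p1 p2 p3
               first | (rw [ha] at p1 p2 p3; omega) | (rw [orderOf_eq_four u.2 ha] at p3; omega)))
        | (rw [Subtype.ext e (a1 := a) (a2 := b)])
        | (subst e; obtain rfl : u = v := Subtype.ext (ha.symm.trans hb); rfl)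
    have htot := Nat.card_le_card_of_injective f hf
    rw [Nat.card_sum, Nat.card_sum, Nat.card_sum, Nat.card_sum, h.card] at htot
    omega
  · exact hj.trans (by norm_num)
  · exfalso
    obtain ⟨Q⟩ : Nonempty (Sylow 3 C) := Sylow.nonempty
    have hQ : Nat.card (Q : Subgroup C) = 9 :=
      card_sylow_of_factor (a := 2) (m := 8) Q (by rw [hj]; norm_num) (by norm_num)
    obtain ⟨P, hP⟩ := (Q.2.map C.subtype).exists_le_sylow
    have heq := Subgroup.eq_of_le_of_card_ge hP
      (by rw [h.card_sylow_three P, Subgroup.card_map_of_injective C.subtype_injective, hQ])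
    have htc : t ∈ centralizer ((P : Subgroup G) : Set G) := by
      refine mem_centralizer_iff.2 fun a ha => ?_
      rw [SetLike.mem_coe, ← heq] at ha
      obtain ⟨b, -, rfl⟩ := ha
      exact mem_centralizer_singleton_iff.1 b.2
    rw [h.centralizer_sylow_three P] at htc
    have := orderOf_dvd_natCard (⟨t, htc⟩ : (P : Subgroup G))
    rw [Subgroup.orderOf_mk, ht, h.card_sylow_three P] at this
    omega

/-- The subgroup of order three of the centraliser of an involution is unique. -/
theorem card_sylow_three_centralizer (h : Hyp G) [Fact (Nat.Prime 3)] {t : G} (ht : orderOf t = 2) :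
    Nat.card (Sylow 3 (centralizer ({t} : Set G))) = 1 := by
  classical
  haveI : Fact (Nat.Prime 2) := ⟨Nat.prime_two⟩
  set C := centralizer ({t} : Set G) with hC
  have h24 : Nat.card C = 24 := h.card_centralizer_two ht
  obtain ⟨Q⟩ : Nonempty (Sylow 3 C) := Sylow.nonempty
  obtain ⟨hd, hmod⟩ := sylow_facts (a := 1) (m := 8) Q (by rw [h24]; norm_num) (by norm_num)
  obtain ⟨i, hi, he⟩ := (Nat.dvd_prime_pow Nat.prime_two).1 (show Nat.card (Sylow 3 C) ∣ 2 ^ 3 from hd)
  rw [he] at hmod
  have hi' : i = 0 ∨ i = 2 := by interval_cases i <;> omega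
  rcases hi' with rfl | rfl
  · exact he
  exfalso
  -- four subgroups of order three
  obtain ⟨c0, hc0⟩ := h.exists_orderOf_four
  obtain ⟨g, hg⟩ := h.exists_conj_involution (show orderOf (c0 ^ 2) = 2 by rw [orderOf_pow, hc0]; rfl) ht
  set c := g * c0 * g⁻¹ with hcdef
  have hc : c ^ 2 = t := by rw [hcdef, conj_pow, hg]
  have hcC : c ∈ C := mem_centralizer_singleton_iff.2 (by rw [← hc]; exact (Commute.pow_right rfl 2).eq)
  have hc4 : orderOf c = 4 := orderOf_eq_four ht hc
  have hQ : ∀ R : Sylow 3 C, Nat.card (R : Subgroup C) = 3 := fun R =>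
    card_sylow_of_factor (a := 1) (m := 8) R (by rw [h24]; norm_num) (by norm_num)
  obtain ⟨k, hk⟩ := exists_prime_orderOf_dvd_card' (G := C) 3 (by rw [h24]; norm_num)
  obtain ⟨R, hR⟩ := (IsPGroup.of_card (G := zpowers k) (n := 1) (by rw [Nat.card_zpowers, hk]; norm_num)).exists_le_sylow (p := 3)
  have hnc : c * (k : G) ≠ (k : G) * c := by
    intro hck
    have hcN : (⟨c, hcC⟩ : C) ∈ normalizer ((R : Subgroup C) : Set C) := by
      refine centralizer_le_normalizer _ ?_
      rw [← Subgroup.eq_of_le_of_card_ge hR (by rw [hQ R, Nat.card_zpowers, hk]), zpowers_eq_closure,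
        centralizer_closure]
      exact mem_centralizer_singleton_iff.2 (Subtype.ext hck)
    have h4 := orderOf_dvd_natCard (⟨_, hcN⟩ : normalizer ((R : Subgroup C) : Set C))
    rw [Subgroup.orderOf_mk, Subgroup.orderOf_mk, hc4] at h4
    have hm := card_normalizer_mul R
    rw [h24, he] at hm
    omega
  set d := (k : G) * c * (k : G)⁻¹ with hd
  have hk3 : (k : G) ^ 3 = 1 := by
    rw [show (3 : ℕ) = orderOf (k : G) by rw [Subgroup.orderOf_coe, hk], pow_orderOf_eq_one]
  have hd2 : d ^ 2 = t := by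
    rw [hd, conj_pow, hc, mem_centralizer_singleton_iff.1 k.2, mul_inv_cancel_right]
  have hdc : d ≠ c := fun e => hnc (mul_inv_eq_iff_eq_mul.1 e).symm
  have hdi : d ≠ c⁻¹ := fun e => by
    rw [hd] at e
    have e2 : (k : G) * ((k : G) * c * (k : G)⁻¹) * (k : G)⁻¹ = c := by
      rw [e, ← conj_inv, e, inv_inv]
    have e3 : c = (k : G) * c * (k : G)⁻¹ := by
      have e4 : ((k : G) ^ 3) * c * ((k : G) ^ 3)⁻¹ = (k : G) * c * (k : G)⁻¹ := by
        calc ((k : G) ^ 3) * c * ((k : G) ^ 3)⁻¹
            = (k : G) * ((k : G) * ((k : G) * c * (k : G)⁻¹) * (k : G)⁻¹) * (k : G)⁻¹ := by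
              rw [pow_succ, pow_two]; group
          _ = _ := by rw [e2]
      rw [hk3] at e4
      simpa using e4
    exact hdc e3.symm
  have hcne : c ≠ c⁻¹ := fun e => by
    have : c ^ 2 = 1 := by rw [pow_two]; nth_rewrite 2 [e]; exact mul_inv_cancel c
    rw [hc] at this
    exact ne_one_of_orderOf ht (by norm_num) this
  have hdne : d ≠ d⁻¹ := fun e => by
    have : d ^ 2 = 1 := by rw [pow_two]; nth_rewrite 2 [e]; exact mul_inv_cancel d
    rw [hd2] at this
    exact ne_one_of_orderOf ht (by norm_num) this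
  have hinv2 : t⁻¹ = t := inv_eq_of_mul_eq_one_left (by rw [← pow_two, ← ht, pow_orderOf_eq_one])
  have hW := h.sigma_bound ht (fun u w => w ^ 2 = u) 4 (fun g u w e => by rw [conj_pow, e]) (by
    have hsub : (({c, c⁻¹, d, d⁻¹} : Finset G) : Set G) ⊆ {w : G | w ^ 2 = t} := by
      intro w hw
      simp only [Finset.coe_insert, Finset.coe_singleton, Set.mem_insert_iff, Set.mem_singleton_iff] at hw
      rcases hw with rfl | rfl | rfl | rfl
      · exact hc
      · show c⁻¹ ^ 2 = t; rw [inv_pow, hc, hinv2]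
      · exact hd2
      · show d⁻¹ ^ 2 = t; rw [inv_pow, hd2, hinv2]
    have h4 := Set.ncard_le_ncard hsub (Set.toFinite _)
    rw [Set.ncard_coe_finset, ← Nat.card_coe_set_eq, Finset.card_insert_of_notMem, Finset.card_insert_of_notMem,
      Finset.card_pair hdne] at h4
    · exact h4
    · simp only [Finset.mem_insert, Finset.mem_singleton, not_or]
      exact ⟨fun e => hdi e.symm, fun e => hdc (inv_injective e).symm⟩
    · simp only [Finset.mem_insert, Finset.mem_singleton, not_or]
      exact ⟨hcne, fun e => hdc e.symm, fun e => hdi (by rw [e, inv_inv])⟩)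
  -- elements of order six
  have hK := h.sigma_bound ht (fun u w => orderOf w = 3 ∧ w * u = u * w) 8
    (fun g u w e => ⟨by rw [orderOf_conj, e.1], by
      calc g * w * g⁻¹ * (g * u * g⁻¹) = g * (w * u) * g⁻¹ := by group
        _ = g * (u * w) * g⁻¹ := by rw [e.2]
        _ = _ := by group⟩) (by
    have h8 := card_orderOf_prime_ge hQ
    rw [he] at h8
    refine le_trans h8 (Nat.card_le_card_of_injective (fun w : {w : C // orderOf w = 3} =>
      (⟨((w.1 : C) : G), by rw [Subgroup.orderOf_coe]; exact w.2, mem_centralizer_singleton_iff.1 w.1.2⟩ :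
        {w : G // orderOf w = 3 ∧ w * t = t * w})) fun a b e => Subtype.ext (Subtype.ext (congrArg Subtype.val e :))))
  obtain ⟨y, hy⟩ := h.exists_orderOf_five
  obtain ⟨h5', h7'⟩ := h.card_five_seven_ge hy
  have hI : Nat.card {u : G // orderOf u = 2} = 105 := by
    have := h.card_involutions_mul ht
    rw [← hC, h24] at this
    omega
  rw [hI] at hW hK
  let f : {g : G // orderOf g = 5} ⊕ {g : G // orderOf g = 7} ⊕ {u : G // orderOf u = 2} ⊕
      (Σ u : {u : G // orderOf u = 2}, {w : G // w ^ 2 = (u : G)}) ⊕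
      (Σ u : {u : G // orderOf u = 2}, {w : G // orderOf w = 3 ∧ w * u = u * w}) → G :=
    Sum.elim Subtype.val (Sum.elim Subtype.val (Sum.elim Subtype.val (Sum.elim (fun z => z.2.1) fun z => z.2.1 * z.1.1)))
  have h6 : ∀ (u w : G), orderOf u = 2 → orderOf w = 3 → w * u = u * w → orderOf (w * u) = 6 := fun u w hu hw hwu => by
    rw [(show Commute w u from hwu).orderOf_mul_eq_mul_orderOf_of_coprime (by rw [hu, hw]; norm_num), hu, hw]
  have hf : Function.Injective f := by
    rintro (⟨a, ha⟩ | ⟨a, ha⟩ | ⟨a, ha⟩ | ⟨u, a, ha⟩ | ⟨u, a, ha, ha'⟩)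
      (⟨b, hb⟩ | ⟨b, hb⟩ | ⟨b, hb⟩ | ⟨v, b, hb⟩ | ⟨v, b, hb, hb'⟩) e <;>
      simp only [f, Sum.elim_inl, Sum.elim_inr] at e
    all_goals first
      | (exfalso; have e5 := congrArg orderOf e; first
          | (rw [ha, hb] at e5; omega)
          | (rw [h6 _ _ u.2 ha ha', hb] at e5; omega)
          | (rw [ha, h6 _ _ v.2 hb hb'] at e5; omega)
          | (rw [orderOf_eq_four u.2 ha, hb] at e5; omega)
          | (rw [ha, orderOf_eq_four v.2 hb] at e5; omega)
          | (rw [orderOf_eq_four u.2 ha, h6 _ _ v.2 hb hb'] at e5; omega)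
          | (rw [h6 _ _ u.2 ha ha', orderOf_eq_four v.2 hb] at e5; omega))
      | (subst e; rfl)
      | (subst e; obtain rfl : u = v := Subtype.ext (ha.symm.trans hb); rfl)
      | (have hu3 : (a * (u : G)) ^ 3 = (u : G) := by
           rw [(show Commute a (u : G) from ha').mul_pow, show a ^ 3 = 1 by rw [← ha, pow_orderOf_eq_one], one_mul, pow_succ,
             orderOf_dvd_iff_pow_eq_one.1 (dvd_of_eq u.2), one_mul]
         have hv3 : (b * (v : G)) ^ 3 = (v : G) := by
           rw [(show Commute b (v : G) from hb').mul_pow, show b ^ 3 = 1 by rw [← hb, pow_orderOf_eq_one], one_mul, pow_succ,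
             orderOf_dvd_iff_pow_eq_one.1 (dvd_of_eq v.2), one_mul]
         obtain rfl : u = v := Subtype.ext (by rw [← hu3, e, hv3])
         obtain rfl : a = b := mul_right_cancel e
         rfl)
  have htot := Nat.card_le_card_of_injective f hf
  rw [Nat.card_sum, Nat.card_sum, Nat.card_sum, Nat.card_sum, h.card, hI] at htot
  omega

/-- Two subgroups of order three centralised by the same involution are equal. -/
theorem eq_of_centralized (h : Hyp G) {t a b : G} (ht : orderOf t = 2) (ha : orderOf a = 3) (hb : orderOf b = 3)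
    (hat : a * t = t * a) (hbt : b * t = t * b) : zpowers a = zpowers b := by
  haveI : Fact (Nat.Prime 3) := ⟨Nat.prime_three⟩
  set C := centralizer ({t} : Set G) with hC
  have hs : Subsingleton (Sylow 3 C) := (Nat.card_eq_one_iff_unique.1 (h.card_sylow_three_centralizer ht)).1
  have key : ∀ x : G, orderOf x = 3 → x * t = t * x →
      ∀ R : Sylow 3 C, zpowers x = (R : Subgroup C).map C.subtype := by
    intro x hx hxt R
    have hxC : x ∈ C := mem_centralizer_singleton_iff.2 hxt
    obtain ⟨S, hS⟩ := (IsPGroup.of_card (G := zpowers (⟨x, hxC⟩ : C)) (n := 1)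
      (by rw [Nat.card_zpowers, Subgroup.orderOf_mk, hx]; norm_num)).exists_le_sylow (p := 3)
    have hS3 : Nat.card (S : Subgroup C) = 3 :=
      card_sylow_of_factor (a := 1) (m := 8) S (by rw [h.card_centralizer_two ht]; norm_num) (by norm_num)
    rw [hs.elim R S, ← Subgroup.eq_of_le_of_card_ge hS (by rw [hS3, Nat.card_zpowers, Subgroup.orderOf_mk, hx]),
      MonoidHom.map_zpowers]
    rfl
  obtain ⟨R⟩ : Nonempty (Sylow 3 C) := Sylow.nonempty
  exact (key a ha hat R).trans (key b hb hbt R).symm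

end Hyp

end Cfsg.Lib.AltSeven
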