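import Cfsg.Agent.Small.AltSeven.Involution
import Cfsg.Agent.Transfer.Fusion

/-!
The centraliser and normaliser of a subgroup of order three centralised by an involution.
-/

set_option autoImplicit false
set_option linter.unusedSectionVars false
set_option linter.style.haveILetI false

namespace Cfsg.Lib.AltSeven

open Subgroup Cfsg.Lib.Small

variable {G : Type*} [Group G] [Finite G] [IsSimpleGroup G]

/-- An element of order three centralised by an involution. -/
def IsE (k : G) : Prop := orderOf k = 3 ∧ ∃ t : G, orderOf t = 2 ∧ k * t = t * k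

omit [IsSimpleGroup G] in
theorem IsE.conj {k : G} (hk : IsE k) (g : G) : IsE (g * k * g⁻¹) := by
  obtain ⟨h3, t, ht, hkt⟩ := hk
  refine ⟨by rw [orderOf_conj, h3], g * t * g⁻¹, by rw [orderOf_conj, ht], ?_⟩
  calc g * k * g⁻¹ * (g * t * g⁻¹) = g * (k * t) * g⁻¹ := by group
    _ = g * (t * k) * g⁻¹ := by rw [hkt]
    _ = g * t * g⁻¹ * (g * k * g⁻¹) := by group

omit [IsSimpleGroup G] in
theorem IsE.inv {k : G} (hk : IsE k) : IsE k⁻¹ := by
  obtain ⟨h3, t, ht, hkt⟩ := hk
  exact ⟨by rw [orderOf_inv, h3], t, ht, (Commute.inv_left hkt).eq⟩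

omit [IsSimpleGroup G] in
theorem zpowers_conj (g k : G) :
    (zpowers k).map (MulAut.conj g).toMonoidHom = zpowers (g * k * g⁻¹) := by
  rw [MonoidHom.map_zpowers]; rfl

omit [IsSimpleGroup G] in
theorem zpowers_eq_of_mem {a b : G} (hab : orderOf a = orderOf b) (h : a ∈ zpowers b) : zpowers a = zpowers b :=
  Subgroup.eq_of_le_of_card_ge (zpowers_le.2 h) (by rw [Nat.card_zpowers, Nat.card_zpowers, hab])

omit [IsSimpleGroup G] in
theorem mem_normalizer_zpowers {g k : G} (h : zpowers (g * k * g⁻¹) = zpowers k) :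
    g ∈ normalizer (zpowers k : Set G) := by
  rw [mem_normalizer_iff_map_conj_eq]
  exact (zpowers_conj g k).trans h

omit [IsSimpleGroup G] in
theorem conj_zpowers_eq {g k : G} (h : g ∈ normalizer (zpowers k : Set G)) :
    zpowers (g * k * g⁻¹) = zpowers k :=
  zpowers_eq_of_mem (orderOf_conj g k) (conj_mem_of_normalizer h (mem_zpowers k))

omit [IsSimpleGroup G] in
theorem centralizer_le_normalizer_zpowers (k : G) :
    centralizer ({k} : Set G) ≤ normalizer (zpowers k : Set G) := by
  intro g hg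
  refine mem_normalizer_zpowers ?_
  rw [mem_centralizer_singleton_iff.1 hg, mul_inv_cancel_right]

omit [IsSimpleGroup G] in
theorem normalizer_le_normalizer_centralizer {k g : G} (hg : g ∈ normalizer (zpowers k : Set G)) :
    g ∈ normalizer (centralizer ({k} : Set G) : Set G) := by
  refine mem_normalizer_fintype ?_
  intro c hc
  refine mem_centralizer_singleton_iff.2 ?_
  obtain ⟨i, hi⟩ := conj_mem_of_normalizer (inv_mem hg) (mem_zpowers k)
  rw [inv_inv] at hi
  have h1 : Commute c (g⁻¹ * k * g) := by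
    rw [← hi]; exact Commute.zpow_right (mem_centralizer_singleton_iff.1 hc) i
  calc g * c * g⁻¹ * k = g * (c * (g⁻¹ * k * g)) * g⁻¹ := by group
    _ = g * (g⁻¹ * k * g * c) * g⁻¹ := by rw [h1.eq]
    _ = k * (g * c * g⁻¹) := by group

namespace Hyp

theorem exists_sylow_mem (h : Hyp G) [Fact (Nat.Prime 3)] {k : G} (hk : orderOf k = 3) :
    ∃ P : Sylow 3 G, k ∈ (P : Subgroup G) := by
  obtain ⟨P, hP⟩ := (IsPGroup.of_card (G := zpowers k) (n := 1) (by rw [Nat.card_zpowers, hk]; norm_num)).exists_le_sylow (p := 3)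
  exact ⟨P, hP (mem_zpowers k)⟩

theorem sylow_le_centralizer (h : Hyp G) [Fact (Nat.Prime 3)] (P : Sylow 3 G) {k : G} (hk : k ∈ (P : Subgroup G)) :
    (P : Subgroup G) ≤ centralizer ({k} : Set G) :=
  fun _ ha => mem_centralizer_singleton_iff.2 (h.sylow_three_comm P ha hk)

/-- The lines form one class. -/
theorem exists_conj_line (h : Hyp G) {a b : G} (ha : IsE a) (hb : IsE b) :
    ∃ g : G, zpowers (g * a * g⁻¹) = zpowers b := by
  obtain ⟨ha3, t, ht, hat⟩ := ha
  obtain ⟨hb3, u, hu, hbu⟩ := hb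
  obtain ⟨g, hg⟩ := h.exists_conj_involution ht hu
  refine ⟨g, h.eq_of_centralized hu (by rw [orderOf_conj, ha3]) hb3 ?_ hbu⟩
  rw [← hg]
  calc g * a * g⁻¹ * (g * t * g⁻¹) = g * (a * t) * g⁻¹ := by group
    _ = g * (t * a) * g⁻¹ := by rw [hat]
    _ = g * t * g⁻¹ * (g * a * g⁻¹) := by group

theorem card_normalizer_line (h : Hyp G) {a : G} (ha : IsE a) :
    Nat.card (normalizer (zpowers a : Set G)) = 72 := by
  haveI : Fact (Nat.Prime 3) := ⟨Nat.prime_three⟩
  obtain ⟨h3, t, ht, hat⟩ := ha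
  set N := normalizer (zpowers a : Set G) with hN
  have h24 : centralizer ({t} : Set G) ≤ N := by
    intro c hc
    refine mem_normalizer_zpowers (h.eq_of_centralized ht (by rw [orderOf_conj, h3]) h3 ?_ hat)
    have hct := mem_centralizer_singleton_iff.1 hc
    have h1 : Commute (c * a * c⁻¹) t :=
      ((show Commute c t from hct).mul_left hat).mul_left (show Commute c t from hct).inv_left
    exact h1.eq
  obtain ⟨P, hP⟩ := h.exists_sylow_mem h3
  have hPN : (P : Subgroup G) ≤ N := (h.sylow_le_centralizer P hP).trans (centralizer_le_normalizer_zpowers a)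
  have h72 : 72 ∣ Nat.card N := by
    refine Nat.Coprime.mul_dvd_of_dvd_of_dvd (show Nat.Coprime 8 9 by norm_num) ?_ ?_
    · exact (h.eight_dvd ht).trans (Subgroup.card_dvd_of_le h24)
    · exact (h.card_sylow_three P).symm.dvd.trans (Subgroup.card_dvd_of_le hPN)
  have hle : Nat.card N ≤ 315 := h.card_normalizer_le (fun e => by
    have := Nat.card_zpowers a; rw [e, Subgroup.card_bot, h3] at this; omega) (by rw [Nat.card_zpowers, h3]; norm_num)
  have hd : Nat.card N ∣ 2520 := dvd_card_of h.card N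
  obtain ⟨k, hk⟩ := h72
  rw [hk] at hd hle
  have hk35 : k ∣ 35 := Nat.dvd_of_mul_dvd_mul_left (by norm_num : 0 < 72) (show 72 * k ∣ 72 * 35 from hd)
  have : k ≤ 4 := by omega
  interval_cases k <;> omega

theorem centralizer_line_data (h : Hyp G) [Fact (Nat.Prime 3)] {a : G} (ha : IsE a) :
    Nat.card (centralizer ({a} : Set G)) = 36 ∧ ∀ P : Sylow 3 G, a ∈ (P : Subgroup G) →
      centralizer ({a} : Set G) ⊓ normalizer ((P : Subgroup G) : Set G) = (P : Subgroup G) ∧
      Nat.card ↥(normalizer (zpowers a : Set G) ⊓ normalizer ((P : Subgroup G) : Set G)) = 18 := by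
  have h3 := ha.1
  haveI : Fact (Nat.Prime 2) := ⟨Nat.prime_two⟩
  set N := normalizer (zpowers a : Set G) with hN
  set C := centralizer ({a} : Set G) with hC
  have hN72 : Nat.card N = 72 := h.card_normalizer_line ha
  have hCN : C ≤ N := centralizer_le_normalizer_zpowers a
  have hrel : C.relIndex N ∣ 2 := by
    have := relIndex_centralizer_dvd (p := 3) (P := zpowers a) (by rw [Nat.card_zpowers, h3]) (T := N) le_rfl
    rwa [show centralizer (zpowers a : Set G) = C by rw [hC, zpowers_eq_closure, centralizer_closure]] at this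
  have hmul : Nat.card C * C.relIndex N = 72 := by
    rw [← hN72, ← Subgroup.card_mul_index (C.subgroupOf N), Nat.card_congr (subgroupOfEquivOfLe hCN).toEquiv]
    rfl
  have hC36 : Nat.card C = 36 := by
    rcases (Nat.dvd_prime Nat.prime_two).1 hrel with e | e
    · exfalso
      rw [e, mul_one] at hmul
      obtain ⟨P, hP⟩ := h.exists_sylow_mem h3
      set NP := normalizer ((P : Subgroup G) : Set G) with hNP
      obtain ⟨n, hn3, hn2, hn1⟩ := exists_card_eq_mul_inf_normalizer P (h.sylow_le_centralizer P hP)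
      rw [← hC, hmul, ← hNP] at hn2
      set M := C ⊓ NP with hM
      have h9 : 9 ∣ Nat.card M :=
        (h.card_sylow_three P).symm.dvd.trans (Subgroup.card_dvd_of_le (le_inf (h.sylow_le_centralizer P hP) le_normalizer))
      have h36 : Nat.card M ∣ 36 := h.card_normalizer_three P ▸ Subgroup.card_dvd_of_le inf_le_right
      obtain ⟨m, hm⟩ := h9
      rw [hm] at hn2 h36
      have hm4 : m ∣ 4 := Nat.dvd_of_mul_dvd_mul_left (by norm_num : 0 < 9) (show 9 * m ∣ 9 * 4 from h36)
      have : m ≤ 4 := Nat.le_of_dvd (by norm_num) hm4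
      have hm2 : m = 2 := by interval_cases m <;> omega
      rw [hm2] at hm hn2
      obtain ⟨u, hu⟩ := exists_prime_orderOf_dvd_card' (G := M) 2 (by rw [hm]; norm_num)
      have hu2 : orderOf (u : G) = 2 := by rw [Subgroup.orderOf_coe]; exact hu
      have hua : (u : G) * a = a * u := mem_centralizer_singleton_iff.1 u.2.1
      have hle : NP ≤ C := by
        intro x hx
        have hcard : Nat.card (NP ⧸ (P : Subgroup G).subgroupOf NP) = 2 ^ 2 := by
          have h1 := Subgroup.card_eq_card_quotient_mul_card_subgroup ((P : Subgroup G).subgroupOf NP)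
          rw [Nat.card_congr (subgroupOfEquivOfLe (le_normalizer : (P : Subgroup G) ≤ NP)).toEquiv,
            h.card_sylow_three P, h.card_normalizer_three P] at h1
          omega
        haveI : ((P : Subgroup G).subgroupOf NP).Normal := Subgroup.normal_in_normalizer
        have hcomm := IsPGroup.commutative_of_card_eq_prime_sq hcard
          (QuotientGroup.mk (⟨x, hx⟩ : NP)) (QuotientGroup.mk (⟨u, u.2.2⟩ : NP))
        rw [← QuotientGroup.mk_mul, ← QuotientGroup.mk_mul, QuotientGroup.eq] at hcomm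
        have hp : (x * (u : G))⁻¹ * ((u : G) * x) ∈ (P : Subgroup G) := hcomm
        set p := (x * (u : G))⁻¹ * ((u : G) * x) with hpdef
        -- the conjugate of u by x⁻¹ centralises a and its conjugate
        set v := x⁻¹ * (u : G) * x with hv
        have hvp : v = (u : G) * p := by rw [hv, hpdef]; group
        have hva : v * a = a * v := by
          rw [hvp]
          exact (show Commute ((u : G) * p) a from
            (show Commute (u : G) a from hua).mul_left (h.sylow_three_comm P hp hP)).eq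
        have hva' : (x⁻¹ * a * x) * v = v * (x⁻¹ * a * x) := by
          rw [hv]
          calc x⁻¹ * a * x * (x⁻¹ * u * x) = x⁻¹ * (a * u) * x := by group
            _ = x⁻¹ * ((u : G) * a) * x := by rw [hua]
            _ = _ := by group
        have hvo : orderOf v = 2 := by
          rw [hv, show x⁻¹ * (u : G) * x = x⁻¹ * u * x⁻¹⁻¹ by rw [inv_inv], orderOf_conj, hu2]
        have hz : zpowers (x⁻¹ * a * x⁻¹⁻¹) = zpowers a := by
          rw [inv_inv]
          exact h.eq_of_centralized hvo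
            (by rw [show x⁻¹ * a * x = x⁻¹ * a * x⁻¹⁻¹ by rw [inv_inv], orderOf_conj, h3]) h3 hva' hva.symm
        have hxN : x ∈ N := inv_mem_iff.1 (mem_normalizer_zpowers hz)
        exact (Subgroup.eq_of_le_of_card_ge hCN (by rw [hN72, hmul])).ge hxN
      have := Subgroup.card_le_of_le (le_inf hle le_rfl : NP ≤ M)
      rw [hm, h.card_normalizer_three P] at this
      omega
    · rw [e] at hmul; omega
  refine ⟨hC36, fun P hP => ?_⟩
  set NP := normalizer ((P : Subgroup G) : Set G) with hNP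
  have hPC := h.sylow_le_centralizer P hP
  obtain ⟨n, hn3, hn2, hn1⟩ := exists_card_eq_mul_inf_normalizer P hPC
  rw [← hC, hC36, ← hNP] at hn2
  obtain ⟨m, hm⟩ : 9 ∣ Nat.card ↥(C ⊓ NP) :=
    (h.card_sylow_three P).symm.dvd.trans (Subgroup.card_dvd_of_le (le_inf hPC le_normalizer))
  rw [hm] at hn2
  have hn4 : n ∣ 4 := Dvd.intro m (by linarith)
  have : n ≤ 4 := Nat.le_of_dvd (by norm_num) hn4
  have hn : n = 4 := by
    interval_cases n
    · omega
    · -- the Sylow subgroup would be normal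
      exfalso
      have hle : C ≤ NP := hn1 rfl
      have hNle : N ≤ NP := by
        intro g hg
        have hgC := normalizer_le_normalizer_centralizer hg
        rw [hNP, mem_normalizer_iff_map_conj_eq]
        have hp : IsPGroup 3 ((P : Subgroup G).map (MulAut.conj g).toMonoidHom) := P.2.map _
        refine Subgroup.eq_of_le_of_card_ge (le_sylow_of_normalizer P hp ?_) (by
          rw [Subgroup.card_map_of_injective (MulEquiv.injective _)])
        rintro _ ⟨z, hz, rfl⟩
        exact hle (conj_mem_of_normalizer hgC (hPC hz))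
      have := Subgroup.card_le_of_le hNle
      rw [hN72, h.card_normalizer_three P] at this
      omega
    · omega
    · omega
    · rfl
  rw [hn] at hn2
  have hCNP : C ⊓ NP = (P : Subgroup G) :=
    (Subgroup.eq_of_le_of_card_ge (le_inf hPC le_normalizer) (by rw [hm, h.card_sylow_three P]; omega)).symm
  refine ⟨hCNP, ?_⟩
  have hPN : (P : Subgroup G) ≤ N := hPC.trans hCN
  obtain ⟨j, hj3, hj2, -⟩ := exists_card_eq_mul_inf_normalizer P hPN
  rw [hN72, ← hNP] at hj2
  set M := N ⊓ NP with hM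
  have hCM : C.relIndex M ∣ 2 := by
    have := relIndex_centralizer_dvd (p := 3) (P := zpowers a) (by rw [Nat.card_zpowers, h3]) (T := M) inf_le_left
    rwa [show centralizer (zpowers a : Set G) = C by rw [hC, zpowers_eq_closure, centralizer_closure]] at this
  have hMm : Nat.card M = 9 * C.relIndex M := by
    rw [← h.card_sylow_three P, ← Subgroup.inf_relIndex_right C M,
      ← Subgroup.card_mul_index ((C ⊓ M).subgroupOf M),
      Nat.card_congr (subgroupOfEquivOfLe (inf_le_right : C ⊓ M ≤ M)).toEquiv]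
    congr 1
    rw [show C ⊓ M = C ⊓ NP by rw [hM, ← inf_assoc, inf_eq_left.2 hCN], hCNP]
  rcases (Nat.dvd_prime Nat.prime_two).1 hCM with e | e <;> rw [hMm, e] at hj2
  · omega
  · rw [hMm, e]

theorem card_centralizer_line (h : Hyp G) {a : G} (ha : IsE a) : Nat.card (centralizer ({a} : Set G)) = 36 :=
  haveI : Fact (Nat.Prime 3) := ⟨Nat.prime_three⟩
  (h.centralizer_line_data ha).1

/-- An element of order three with even centraliser is a line element. -/
theorem isE_or_centralizer (h : Hyp G) [Fact (Nat.Prime 3)] {k : G} (hk : orderOf k = 3) (P : Sylow 3 G)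
    (hP : k ∈ (P : Subgroup G)) : IsE k ∨ centralizer ({k} : Set G) = (P : Subgroup G) := by
  haveI : Fact (Nat.Prime 2) := ⟨Nat.prime_two⟩
  by_cases h2 : 2 ∣ Nat.card (centralizer ({k} : Set G))
  · obtain ⟨u, hu⟩ := exists_prime_orderOf_dvd_card' (G := centralizer ({k} : Set G)) 2 h2
    exact Or.inl ⟨hk, u, by rw [Subgroup.orderOf_coe]; exact hu, (mem_centralizer_singleton_iff.1 u.2).symm⟩
  · refine Or.inr (Subgroup.eq_of_le_of_card_ge (h.sylow_le_centralizer P hP) ?_).symm
    rw [h.card_sylow_three P]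
    obtain ⟨m, hm⟩ := (h.card_sylow_three P).symm.dvd.trans (Subgroup.card_dvd_of_le (h.sylow_le_centralizer P hP))
    have hd := dvd_card_of h.card (centralizer ({k} : Set G))
    have h5 := h.not_five_dvd_centralizer (Or.inr hk)
    have h7 := h.not_seven_dvd_centralizer (u := k) (by simp [hk])
    rw [hm] at hd h5 h7 h2 ⊢
    have hm280 : m ∣ 280 := Nat.dvd_of_mul_dvd_mul_left (by norm_num : 0 < 9) (show 9 * m ∣ 9 * 280 from hd)
    have hc8 : Nat.Coprime m 8 := (Nat.Coprime.pow_left 3
      ((Nat.Prime.coprime_iff_not_dvd Nat.prime_two).2 fun e => h2 (e.mul_left 9))).symm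
    have hm35 : m ∣ 35 := hc8.dvd_of_dvd_mul_left (show m ∣ 8 * 35 from hm280)
    have hc : Nat.Coprime m 35 := Nat.Coprime.mul_right
      ((Nat.Prime.coprime_iff_not_dvd (show Nat.Prime 5 by norm_num)).2 fun e => h5 (e.mul_left 9)).symm
      ((Nat.Prime.coprime_iff_not_dvd (show Nat.Prime 7 by norm_num)).2 fun e => h7 (e.mul_left 9)).symm
    rw [hc.eq_one_of_dvd hm35, mul_one]

/-- Involutions normalising a Sylow 3-subgroup invert it. -/
theorem inverts_sylow (h : Hyp G) [Fact (Nat.Prime 3)] (P : Sylow 3 G) {t : G} (ht : orderOf t = 2)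
    (htP : t ∈ normalizer ((P : Subgroup G) : Set G)) {x : G} (hx : x ∈ (P : Subgroup G)) :
    t * x * t⁻¹ = x⁻¹ := by
  have htt : t * t = 1 := by rw [← pow_two, ← ht, pow_orderOf_eq_one]
  have hfree : ∀ z ∈ (P : Subgroup G), t * z * t⁻¹ = z → z = 1 := by
    intro z hz hzt
    by_contra hz1
    obtain ⟨n, hn⟩ := (IsPGroup.iff_orderOf.1 P.2) ⟨z, hz⟩
    rw [Subgroup.orderOf_mk] at hn
    rcases n with _ | n
    · exact hz1 (orderOf_eq_one_iff.1 hn)
    set e := z ^ 3 ^ n with he
    have he3 : orderOf e = 3 := by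
      rw [he, orderOf_pow_of_dvd (by positivity) (hn ▸ pow_dvd_pow 3 (by omega)), hn, pow_succ,
        Nat.mul_div_cancel_left _ (by positivity)]
    have hte : Commute t e := by
      rw [he]; exact Commute.pow_right (mul_inv_eq_iff_eq_mul.1 hzt) _
    have heP : e ∈ (P : Subgroup G) := pow_mem hz _
    have hmem := (((h.centralizer_line_data ⟨he3, t, ht, hte.eq.symm⟩).2 P heP).1).le
      ⟨mem_centralizer_singleton_iff.2 hte.eq, htP⟩
    have := orderOf_dvd_natCard (⟨t, hmem⟩ : (P : Subgroup G))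
    rw [Subgroup.orderOf_mk, ht, h.card_sylow_three P] at this
    omega
  have hy : t * x * t⁻¹ ∈ (P : Subgroup G) := conj_mem_of_normalizer htP hx
  have h1 := hfree _ (mul_mem hy hx) (by
    calc t * (t * x * t⁻¹ * x) * t⁻¹ = (t * t) * x * (t * t)⁻¹ * (t * x * t⁻¹) := by group
      _ = x * (t * x * t⁻¹) := by rw [htt]; group
      _ = t * x * t⁻¹ * x := h.sylow_three_comm P hx hy)
  exact eq_inv_of_mul_eq_one_left h1

set_option maxHeartbeats 1000000 in
/-- The four-group in the centraliser of a line element. -/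
theorem exists_four_group (h : Hyp G) {a : G} (ha : IsE a) :
    ∃ V : Subgroup G, Nat.card V = 4 ∧ V ≤ centralizer ({a} : Set G) ∧ (∀ x ∈ V, x * x = 1) ∧
      (∀ g ∈ normalizer (centralizer ({a} : Set G) : Set G), ∀ x ∈ V, g * x * g⁻¹ ∈ V) ∧
      (∀ u ∈ centralizer ({a} : Set G), orderOf u = 2 → u ∈ V) ∧
      ∀ x ∈ centralizer ({a} : Set G), ∀ y ∈ centralizer ({a} : Set G), x * y * x⁻¹ * y⁻¹ ∈ V := by
  haveI : Fact (Nat.Prime 3) := ⟨Nat.prime_three⟩
  haveI : Fact (Nat.Prime 2) := ⟨Nat.prime_two⟩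
  have h3 := ha.1
  set C := centralizer ({a} : Set G) with hC
  have h36 : Nat.card C = 36 := h.card_centralizer_line ha
  obtain ⟨P, hP⟩ := h.exists_sylow_mem h3
  have hPC := h.sylow_le_centralizer P hP
  have hPN : C ⊓ normalizer ((P : Subgroup G) : Set G) = (P : Subgroup G) := ((h.centralizer_line_data ha).2 P hP).1
  obtain ⟨R⟩ : Nonempty (Sylow 2 C) := Sylow.nonempty
  have hR : Nat.card (R : Subgroup C) = 4 :=
    card_sylow_of_factor (a := 2) (m := 9) R (by rw [h36]; norm_num) (by norm_num)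
  have hRcomm : ∀ r ∈ (R : Subgroup C), ∀ s ∈ (R : Subgroup C), r * s = s * r := fun r hr s hs =>
    congrArg Subtype.val (IsPGroup.commutative_of_card_eq_prime_sq (p := 2)
      (show Nat.card (R : Subgroup C) = 2 ^ 2 by rw [hR]; norm_num) ⟨r, hr⟩ ⟨s, hs⟩)
  have haC : a ∈ C := mem_centralizer_singleton_iff.2 rfl
  have hRn : (R : Subgroup C).Normal := by
    rw [← normalizer_eq_top_iff]
    set NR := normalizer ((R : Subgroup C) : Set C) with hNR
    set CR := centralizer ((R : Subgroup C) : Set C) with hCR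
    by_contra hne
    have hRc : (R : Subgroup C) ≤ CR := fun r hr => mem_centralizer_iff.2 fun s hs => hRcomm s hs r hr
    have haR : (⟨a, haC⟩ : C) ∈ CR := mem_centralizer_iff.2 fun r _ => Subtype.ext
      (show (r : G) * a = a * r from mem_centralizer_singleton_iff.1 r.2)
    have h12 : 12 ∣ Nat.card CR := by
      refine Nat.Coprime.mul_dvd_of_dvd_of_dvd (show Nat.Coprime 4 3 by norm_num)
        (hR.symm.dvd.trans (Subgroup.card_dvd_of_le hRc)) ?_
      rw [← h3, ← Subgroup.orderOf_mk a haC, ← Subgroup.orderOf_mk _ haR]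
      exact orderOf_dvd_natCard _
    obtain ⟨k, hk⟩ := h12.trans (Subgroup.card_dvd_of_le (centralizer_le_normalizer _ : CR ≤ NR))
    have hd : Nat.card NR ∣ 36 := h36 ▸ Subgroup.card_subgroup_dvd_card _
    rw [hk] at hd
    have hk3 : k ∣ 3 := Nat.dvd_of_mul_dvd_mul_left (by norm_num : 0 < 12) (show 12 * k ∣ 12 * 3 from hd)
    rcases (Nat.dvd_prime Nat.prime_three).1 hk3 with e | e
    · have hle : NR ≤ CR := (Subgroup.eq_of_le_of_card_ge (centralizer_le_normalizer _)
        (by rw [← hNR, hk, e]; exact Nat.le_of_dvd Nat.card_pos h12)).ge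
      have hcompl := MonoidHom.ker_transferSylow_isComplement' R hle
      obtain ⟨M1, hM1n, hcompl⟩ : ∃ M1 : Subgroup C, M1.Normal ∧ Subgroup.IsComplement' M1 (R : Subgroup C) :=
        ⟨_, MonoidHom.normal_ker _, hcompl⟩
      haveI := hM1n
      have hM9 : Nat.card M1 = 9 := by
        have := hcompl.card_mul
        rw [hR, h36] at this
        omega
      have hp : IsPGroup 3 (M1.map C.subtype) := IsPGroup.of_card (n := 2) (by
        rw [Subgroup.card_map_of_injective C.subtype_injective, hM9]; norm_num)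
      obtain ⟨Q, hQ⟩ := hp.exists_le_sylow
      have hQeq : M1.map C.subtype = (Q : Subgroup G) := Subgroup.eq_of_le_of_card_ge hQ (by
        rw [h.card_sylow_three Q, Subgroup.card_map_of_injective C.subtype_injective, hM9])
      have haQ : a ∈ (Q : Subgroup G) := by
        rw [← hQeq]
        refine ⟨⟨a, haC⟩, ?_, rfl⟩
        refine (QuotientGroup.eq_one_iff (N := M1) _).1 (orderOf_eq_one_iff.1
          (Nat.eq_one_of_dvd_coprimes (show Nat.Coprime 3 4 by norm_num) ?_ ?_))
        · exact (orderOf_map_dvd (QuotientGroup.mk' M1) _).trans (by rw [Subgroup.orderOf_mk, h3])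
        · refine (_root_.orderOf_dvd_natCard _).trans (dvd_of_eq ?_)
          have := M1.card_mul_index
          rw [hM9, h36] at this
          rw [← Subgroup.index_eq_card]; omega
      have hCle : C ≤ (Q : Subgroup G) := by
        rw [← ((h.centralizer_line_data ha).2 Q haQ).1]
        refine le_inf le_rfl fun g hg => mem_normalizer_fintype ?_
        intro x hx
        rw [SetLike.mem_coe, ← hQeq] at hx ⊢
        obtain ⟨z, hz, rfl⟩ := hx
        exact ⟨⟨g, hg⟩ * z * (⟨g, hg⟩ : C)⁻¹, hM1n.conj_mem _ hz _, rfl⟩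
      have := Subgroup.card_le_of_le hCle
      rw [h36, h.card_sylow_three Q] at this
      omega
    · exact hne (Subgroup.eq_top_of_card_eq _ (by rw [hk, e, h36]; norm_num))
  set V := (R : Subgroup C).map C.subtype with hV
  have hVcard : Nat.card V = 4 := by rw [hV, Subgroup.card_map_of_injective C.subtype_injective, hR]
  have hconjV : ∀ g ∈ normalizer (C : Set G), ∀ x ∈ V, g * x * g⁻¹ ∈ V := by
    rintro g hg _ ⟨r, hr, rfl⟩
    have hgr : g * (r : G) * g⁻¹ ∈ C := conj_mem_of_normalizer hg r.2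
    have hp : IsPGroup 2 (zpowers (⟨_, hgr⟩ : C)) := by
      obtain ⟨k, hk⟩ := (IsPGroup.iff_orderOf.1 R.2) ⟨r, hr⟩
      refine IsPGroup.of_card (n := k) ?_
      rw [Nat.card_zpowers, Subgroup.orderOf_mk, orderOf_conj, ← hk, Subgroup.orderOf_mk, Subgroup.orderOf_coe]
    refine ⟨⟨_, hgr⟩, le_sylow_of_normalizer R hp ?_ (mem_zpowers _), rfl⟩
    rw [normalizer_eq_top]; exact le_top
  refine ⟨V, hVcard, map_subtype_le _, ?_, hconjV, ?_, ?_⟩
  · -- exponent two
    rintro _ ⟨r, hr, rfl⟩
    by_contra hne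
    have hd4 : orderOf (r : G) ∣ 2 ^ 2 := by
      rw [Subgroup.orderOf_coe, ← Subgroup.orderOf_mk r hr, show 2 ^ 2 = Nat.card (R : Subgroup C) by rw [hR]; norm_num]
      exact orderOf_dvd_natCard _
    obtain ⟨i, hi, hie⟩ := (Nat.dvd_prime_pow Nat.prime_two).1 hd4
    have hi2 : i = 2 := by
      by_contra hi2
      refine hne ?_
      show (r : G) * r = 1
      rw [← pow_two, ← orderOf_dvd_iff_pow_eq_one, hie]
      calc 2 ^ i ∣ 2 ^ 1 := pow_dvd_pow 2 (by omega)
        _ = 2 := pow_one 2
    rw [hi2] at hie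
    have hVr : zpowers (r : G) = V := Subgroup.eq_of_le_of_card_ge (zpowers_le.2 ⟨r, hr, rfl⟩)
      (by rw [hVcard, Nat.card_zpowers, hie]; norm_num)
    -- then P centralises the involution of V
    have hu : (r : G) ^ 2 ∈ centralizer ((P : Subgroup G) : Set G) := by
      refine mem_centralizer_iff.2 fun x hx => ?_
      have hm : x * (r : G) * x⁻¹ ∈ V := hconjV x (le_normalizer (hPC hx)) _ ⟨r, hr, rfl⟩
      rw [← hVr] at hm
      obtain ⟨j, hj, e⟩ := exists_pow_lt hm
      have ho := orderOf_conj x (r : G)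
      rw [← e, hie] at ho
      rw [hie] at hj
      norm_num at hj ho
      have e2 : ((r : G) ^ j) ^ 2 = x * (r : G) ^ 2 * x⁻¹ := by rw [e, conj_pow]
      have : ((r : G) ^ j) ^ 2 = (r : G) ^ 2 := by
        interval_cases j
        · rw [pow_zero, orderOf_one] at ho; omega
        · rw [pow_one]
        · rw [orderOf_pow, hie] at ho; norm_num at ho
        · rw [← pow_mul, show 3 * 2 = 4 + 2 from rfl, pow_add, show (4 : ℕ) = 2 ^ 2 from rfl, ← hie, pow_orderOf_eq_one,
            one_mul]
      rw [this] at e2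
      exact (mul_inv_eq_iff_eq_mul.1 e2.symm)
    rw [h.centralizer_sylow_three P] at hu
    have h2 := orderOf_dvd_natCard (⟨_, hu⟩ : (P : Subgroup G))
    rw [Subgroup.orderOf_mk, h.card_sylow_three P, orderOf_pow, hie] at h2
    norm_num at h2
  · intro u hu hu2
    refine ⟨⟨u, hu⟩, mem_sylow_of_orderOf R (by rw [Subgroup.orderOf_mk]; exact hu2) ?_, rfl⟩
    rw [normalizer_eq_top]; exact mem_top _
  · intro x hx y hy
    haveI := hRn
    have hq : Nat.card (C ⧸ (R : Subgroup C)) = 3 ^ 2 := by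
      have h1 := Subgroup.card_eq_card_quotient_mul_card_subgroup (R : Subgroup C)
      rw [hR, h36] at h1
      omega
    have hcomm := IsPGroup.commutative_of_card_eq_prime_sq hq
      (QuotientGroup.mk (⟨x, hx⟩ : C)) (QuotientGroup.mk (⟨y, hy⟩ : C))
    refine ⟨⟨x, hx⟩ * ⟨y, hy⟩ * (⟨x, hx⟩ : C)⁻¹ * (⟨y, hy⟩ : C)⁻¹, ?_, rfl⟩
    refine (QuotientGroup.eq_one_iff (N := (R : Subgroup C)) _).1 ?_
    rw [QuotientGroup.mk_mul, QuotientGroup.mk_mul, QuotientGroup.mk_mul, QuotientGroup.mk_inv, QuotientGroup.mk_inv, hcomm]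
    group

/-- Each Sylow 3-subgroup through a line contains exactly one other line. -/
theorem exists_other_line (h : Hyp G) [Fact (Nat.Prime 3)] {a : G} (ha : IsE a) (P : Sylow 3 G)
    (hP : a ∈ (P : Subgroup G)) :
    ∀ b c : G, IsE b → IsE c → b ∈ (P : Subgroup G) → c ∈ (P : Subgroup G) →
      zpowers b ≠ zpowers a → zpowers c ≠ zpowers a → zpowers b = zpowers c := by
  intro b c hb hc hbP hcP hba hca
  set NP := normalizer ((P : Subgroup G) : Set G) with hNP
  set M := normalizer (zpowers a : Set G) ⊓ NP with hM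
  have hfus : ∀ x : G, IsE x → x ∈ (P : Subgroup G) → ∃ n ∈ NP, zpowers (n * a * n⁻¹) = zpowers x := by
    intro x hx hxP
    obtain ⟨g, hg⟩ := h.exists_conj_line ha hx
    have hnorm : ∀ z ∈ (P : Subgroup G), (P : Subgroup G) ≤ normalizer (zpowers z : Set G) := fun z hz =>
      (h.sylow_le_centralizer P hz).trans (centralizer_le_normalizer_zpowers z)
    obtain ⟨n, hn, hne⟩ := Cfsg.Lib.Transfer.burnside_fusion_set P (zpowers a : Set G) (zpowers x : Set G)
      (hnorm a hP) (hnorm x hxP) g (by rw [← hg, ← zpowers_conj]; rfl)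
    refine ⟨n, hn, ?_⟩
    rw [← zpowers_conj]
    exact SetLike.coe_injective hne
  obtain ⟨n1, hn1, e1⟩ := hfus b hb hbP
  obtain ⟨n2, hn2, e2⟩ := hfus c hc hcP
  have h18 : Nat.card M = 18 := ((h.centralizer_line_data ha).2 P hP).2
  have hidx : (M.subgroupOf NP).index = 2 := by
    have h1 := Subgroup.card_mul_index (M.subgroupOf NP)
    rw [Nat.card_congr (subgroupOfEquivOfLe (inf_le_right : M ≤ NP)).toEquiv, h18, h.card_normalizer_three P] at h1
    omega
  have hnot : ∀ n (hn : n ∈ NP), zpowers (n * a * n⁻¹) ≠ zpowers a → (⟨n, hn⟩ : NP)⁻¹ ∉ M.subgroupOf NP := by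
    intro n hn hne hmem
    exact hne (conj_zpowers_eq (inv_mem_iff.1 (show n⁻¹ ∈ M from hmem).1))
  have hm : (⟨n1, hn1⟩ : NP)⁻¹ * ⟨n2, hn2⟩ ∈ M.subgroupOf NP := by
    rw [Subgroup.mul_mem_iff_of_index_two hidx]
    refine iff_of_false (hnot n1 hn1 (e1 ▸ hba)) fun e => hnot n2 hn2 (e2 ▸ hca) (inv_mem e)
  have hz := conj_zpowers_eq (show n1⁻¹ * n2 ∈ M from hm).1
  have e3 : n2 * a * n2⁻¹ = n1 * (n1⁻¹ * n2 * a * (n1⁻¹ * n2)⁻¹) * n1⁻¹ := by group
  rw [← e1, ← e2, e3, ← zpowers_conj, ← zpowers_conj n1, hz]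

/-- An element outside the centraliser inverts a Sylow 3-subgroup modulo the four-group. -/
theorem conj_mul_mem_four (h : Hyp G) [Fact (Nat.Prime 3)] {a : G} (ha : IsE a) {V : Subgroup G}
    (hV : ∀ g ∈ normalizer (centralizer ({a} : Set G) : Set G), ∀ x ∈ V, g * x * g⁻¹ ∈ V)
    (hcomm : ∀ x ∈ centralizer ({a} : Set G), ∀ y ∈ centralizer ({a} : Set G), x * y * x⁻¹ * y⁻¹ ∈ V)
    (P : Sylow 3 G) (hP : a ∈ (P : Subgroup G)) {v x : G} (hv : v ∈ normalizer (zpowers a : Set G))
    (hvC : v ∉ centralizer ({a} : Set G)) (hx : x ∈ (P : Subgroup G)) : v * x * v⁻¹ * x ∈ V := by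
  haveI : Fact (Nat.Prime 2) := ⟨Nat.prime_two⟩
  set C := centralizer ({a} : Set G) with hC
  obtain ⟨t, ht⟩ := exists_prime_orderOf_dvd_card'
    (G := ↥(normalizer (zpowers a : Set G) ⊓ normalizer ((P : Subgroup G) : Set G))) 2
    (by rw [((h.centralizer_line_data ha).2 P hP).2]; norm_num)
  have ht2 : orderOf (t : G) = 2 := by rw [Subgroup.orderOf_coe]; exact ht
  have htN : (t : G) ∈ normalizer (zpowers a : Set G) := t.2.1
  have htC : (t : G) ∉ C := by
    intro e
    have h1 := h.inverts_sylow P ht2 t.2.2 hP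
    rw [mem_centralizer_singleton_iff.1 e, mul_inv_cancel_right] at h1
    have : a ^ 2 = 1 := by rw [pow_two]; nth_rewrite 2 [h1]; exact mul_inv_cancel a
    have := orderOf_dvd_iff_pow_eq_one.2 this
    rw [ha.1] at this; omega
  have hCN : C ≤ normalizer (zpowers a : Set G) := centralizer_le_normalizer_zpowers a
  have hidx : (C.subgroupOf (normalizer (zpowers a : Set G))).index = 2 := by
    have h1 := Subgroup.card_mul_index (C.subgroupOf (normalizer (zpowers a : Set G)))
    rw [Nat.card_congr (subgroupOfEquivOfLe hCN).toEquiv, h.card_centralizer_line ha, h.card_normalizer_line ha] at h1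
    omega
  have hc : (⟨t, htN⟩ : normalizer (zpowers a : Set G))⁻¹ * ⟨v, hv⟩ ∈ C.subgroupOf (normalizer (zpowers a : Set G)) := by
    rw [Subgroup.mul_mem_iff_of_index_two hidx]
    exact iff_of_false (fun e => htC (inv_mem_iff.1 (show (t : G)⁻¹ ∈ C from e))) fun e => hvC e
  set c := (t : G)⁻¹ * v with hcdef
  have hcC : c ∈ C := hc
  have hw := hcomm c hcC x (h.sylow_le_centralizer P hP hx)
  have hinv := h.inverts_sylow P ht2 t.2.2 hx
  have heq : v * x * v⁻¹ * x = (t : G) * (c * x * c⁻¹ * x⁻¹) * (t : G)⁻¹ := by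
    have e1 : (t : G) * x⁻¹ * (t : G)⁻¹ = x := by rw [← conj_inv, hinv, inv_inv]
    conv_lhs => arg 2; rw [← e1]
    rw [hcdef]; group
  rw [heq]
  exact hV _ (normalizer_le_normalizer_centralizer htN) _ hw

end Hyp

end Cfsg.Lib.AltSeven
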