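import Cfsg.Agent.Small.AltSeven.Basic

/-!
Elements of order seven are self-centralising.
-/

set_option autoImplicit false
set_option linter.unusedSectionVars false
set_option linter.style.haveILetI false

namespace Cfsg.Lib.AltSeven

open Subgroup Cfsg.Lib.Small

variable {G : Type*} [Group G] [Finite G] [IsSimpleGroup G]

theorem sylow_counts_seven : ∀ n ≤ 360, n ∣ 360 → n % 7 = 1 → n = 1 ∨ n = 8 ∨ n = 15 ∨ n = 36 ∨ n = 120 := by
  decide +kernel

theorem sylow_counts_five : ∀ n ≤ 504, n ∣ 504 → n % 5 = 1 →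
    n = 1 ∨ n = 6 ∨ n = 21 ∨ n = 36 ∨ n = 56 ∨ n = 126 := by
  decide +kernel

omit [IsSimpleGroup G] in
/-- Conjugation by an element normalising a subgroup. -/
theorem conj_mem_of_normalizer {H : Subgroup G} {a x : G} (ha : a ∈ normalizer (H : Set G)) (hx : x ∈ H) :
    a * x * a⁻¹ ∈ H :=
  (mem_normalizer_iff.1 ha x).1 hx

omit [IsSimpleGroup G] in
theorem le_sylow_of_normalizer {p : ℕ} [Fact p.Prime] (P : Sylow p G) {H : Subgroup G} (hp : IsPGroup p H)
    (hH : H ≤ normalizer ((P : Subgroup G) : Set G)) : H ≤ (P : Subgroup G) := by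
  have h1 := hp.inf_normalizer_sylow P
  exact inf_eq_left.1 (h1.symm.trans (inf_eq_left.2 hH))

omit [IsSimpleGroup G] in
theorem mem_sylow_of_orderOf {p : ℕ} [hp : Fact p.Prime] (P : Sylow p G) {c : G} (hc : orderOf c = p)
    (hn : c ∈ normalizer ((P : Subgroup G) : Set G)) : c ∈ (P : Subgroup G) :=
  le_sylow_of_normalizer P (IsPGroup.of_card (n := 1) (by rw [Nat.card_zpowers, hc, pow_one]))
    (zpowers_le.2 hn) (mem_zpowers c)

namespace Hyp

/-- The Sylow 7-subgroups are not thirty-six in number. -/
theorem card_sylow_seven_ne_thirtysix (h : Hyp G) [Fact (Nat.Prime 7)] : Nat.card (Sylow 7 G) ≠ 36 := by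
  classical
  intro hn
  haveI : Fact (Nat.Prime 5) := ⟨by norm_num⟩
  obtain ⟨P⟩ : Nonempty (Sylow 7 G) := Sylow.nonempty
  have hd7 : 7 ∣ Nat.card G := by rw [h.card]; norm_num
  have hd5 : 5 ∣ Nat.card G := by rw [h.card]; norm_num
  have hP : Nat.card (P : Subgroup G) = 7 :=
    card_sylow_of_factor (a := 1) (m := 360) P (by rw [h.card]; norm_num) (by norm_num)
  set N := normalizer ((P : Subgroup G) : Set G) with hNdef
  have hN : Nat.card N = 70 := by
    have := card_normalizer_mul P
    rw [hn, h.card, ← hNdef] at this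
    omega
  set C := centralizer ((P : Subgroup G) : Set G) with hCdef
  have hCN : C ≤ N := centralizer_le_normalizer _
  have hmul : Nat.card C * C.relIndex N = 70 := by
    rw [← hN, ← Subgroup.card_mul_index (C.subgroupOf N), Nat.card_congr (subgroupOfEquivOfLe hCN).toEquiv]
    rfl
  have hC : Nat.card C = 35 := by
    have h6 : C.relIndex N ∣ 7 - 1 := relIndex_centralizer_dvd hP le_rfl
    have hne : C.relIndex N ≠ 1 := fun e => not_normalizer_le_centralizer h.nc hd7 P (relIndex_eq_one.1 e)
    have h70 : C.relIndex N ∣ 70 := ⟨_, (mul_comm _ _).trans hmul |>.symm⟩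
    have h2 : C.relIndex N ∣ Nat.gcd 6 70 := Nat.dvd_gcd h6 h70
    rcases (Nat.dvd_prime Nat.prime_two).1 h2 with e | e
    · exact absurd e hne
    · rw [e] at hmul; omega
  obtain ⟨z, hz⟩ := exists_prime_orderOf_dvd_card' (G := C) 5 (by rw [hC]; norm_num)
  have hz5 : orderOf (z : G) = 5 := by rw [Subgroup.orderOf_coe]; exact hz
  have hZc : Nat.card (zpowers (z : G)) = 5 := by rw [Nat.card_zpowers, hz5]
  obtain ⟨Z, hZ⟩ := (IsPGroup.of_card (G := zpowers (z : G)) (n := 1) (by rw [hZc]; norm_num)).exists_le_sylow (p := 5)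
  have hZcard : Nat.card (Z : Subgroup G) = 5 :=
    card_sylow_of_factor (a := 1) (m := 504) Z (by rw [h.card]; norm_num) (by norm_num)
  have hZeq : zpowers (z : G) = Z := Subgroup.eq_of_le_of_card_ge hZ (by rw [hZc, hZcard])
  -- the normaliser of the Sylow 5-subgroup
  set N5 := normalizer ((Z : Subgroup G) : Set G) with hN5def
  have hCN5 : C ≤ N5 := by
    intro c hc
    refine centralizer_le_normalizer _ ?_
    rw [← hZeq, zpowers_eq_closure, centralizer_closure]
    refine mem_centralizer_singleton_iff.2 ?_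
    haveI : IsCyclic C := by
      have hx : ∀ a : C, ∀ b : (P : Subgroup G), (b : G) * a = a * b := fun a b =>
        mem_centralizer_iff.1 a.2 b b.2
      obtain ⟨x, hx7⟩ := exists_prime_orderOf_dvd_card' (G := C) 7 (by rw [hC]; norm_num)
      have hxP : (x : G) ∈ (P : Subgroup G) :=
        mem_sylow_of_orderOf P (by rw [Subgroup.orderOf_coe, hx7]) (hCN x.2)
      have hcomm : Commute x z := Subtype.ext (hx z ⟨_, hxP⟩)
      refine isCyclic_of_orderOf_eq_card (x * z) ?_
      rw [hcomm.orderOf_mul_eq_mul_orderOf_of_coprime (by rw [hx7, hz]; norm_num), hx7, hz, hC]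
    letI : CommGroup C := IsCyclic.commGroup
    exact congrArg Subtype.val (mul_comm (⟨c, hc⟩ : C) z)
  have hN5 : Nat.card N5 = 70 := by
    have hm := card_normalizer_mul Z
    rw [← hN5def, h.card] at hm
    obtain ⟨hd, hmod⟩ := sylow_facts (a := 1) (m := 504) Z (by rw [h.card]; norm_num) (by norm_num)
    have h35 : 35 ∣ Nat.card N5 := hC ▸ Subgroup.card_dvd_of_le hCN5
    have hsm := h.card_normalizer_le (K := (Z : Subgroup G))
      (fun e => by rw [e, Subgroup.card_bot] at hZcard; omega) (by rw [hZcard]; norm_num)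
    rw [← hN5def] at hsm
    rcases sylow_counts_five _ (Nat.le_of_dvd (by norm_num) hd) hd hmod with e | e | e | e | e | e <;>
      rw [e] at hm <;> omega
  -- a Sylow 7-subgroup normalised by an element of order five of C is P
  have hfive : ∀ R : Sylow 7 G, (z : G) • R = R → R = P := by
    intro R hR
    have hzR : (z : G) ∈ centralizer ((R : Subgroup G) : Set G) :=
      mem_centralizer_of_coprime (p := 7)
        (card_sylow_of_factor (a := 1) (m := 360) R (by rw [h.card]; norm_num) (by norm_num))
        (Sylow.smul_eq_iff_mem_normalizer.1 hR) (by rw [hz5]; norm_num)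
    have hRN5 : (R : Subgroup G) ≤ N5 := by
      intro r hr
      refine centralizer_le_normalizer _ ?_
      rw [← hZeq, zpowers_eq_closure, centralizer_closure]
      exact mem_centralizer_singleton_iff.2 (mem_centralizer_iff.1 hzR r hr)
    have hPN5 : (P : Subgroup G) ≤ N5 := by
      intro x hx
      refine centralizer_le_normalizer _ ?_
      rw [← hZeq, zpowers_eq_closure, centralizer_closure]
      exact mem_centralizer_singleton_iff.2 (mem_centralizer_iff.1 z.2 x hx)
    obtain ⟨n, hn7, hn2, hn1⟩ := exists_card_eq_mul_inf_normalizer P hPN5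
    have hn' : n = 1 := by
      have h7' : 7 ∣ Nat.card ↥(N5 ⊓ normalizer ((P : Subgroup G) : Set G)) :=
        hP.symm.dvd.trans (Subgroup.card_dvd_of_le (le_inf hPN5 le_normalizer))
      obtain ⟨k, hk⟩ := h7'
      rw [hk, hN5] at hn2
      have : n ∣ 10 := ⟨k, by linarith⟩
      have := Nat.le_of_dvd (by norm_num) this
      interval_cases n <;> omega
    have hle : (R : Subgroup G) ≤ N := fun r hr => hn1 hn' (hRN5 hr)
    exact Sylow.ext (Subgroup.eq_of_le_of_card_ge (le_sylow_of_normalizer P R.2 hle)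
      (by rw [hP, card_sylow_of_factor (a := 1) (m := 360) R (by rw [h.card]; norm_num) (by norm_num)]; norm_num))
  -- C fixes only P
  have hsemi : ∀ c ∈ C, c ≠ 1 → ∀ R : Sylow 7 G, c • R = R → R = P := by
    intro c hc hc1 R hR
    have hord : orderOf c ∣ 35 := by
      rw [← hC, ← Subgroup.orderOf_mk c hc]; exact orderOf_dvd_natCard _
    have hfix : ∀ k : ℕ, c ^ k • R = R := fun k => by
      induction k with
      | zero => rw [pow_zero, one_smul]
      | succ k ih => rw [pow_succ, mul_smul, hR, ih]
    by_cases h5 : 5 ∣ orderOf c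
    · -- a power of c of order five generates the same group as z
      obtain ⟨k, hk⟩ := h5
      have hk0 : k ≠ 0 := fun e => by rw [e] at hk; exact absurd hk (orderOf_pos c).ne'
      have ho : orderOf (c ^ k) = 5 := by
        rw [orderOf_pow' c hk0, hk, Nat.gcd_mul_left_left, Nat.mul_div_cancel _ (Nat.pos_of_ne_zero hk0)]
      have hmem : c ^ k ∈ (Z : Subgroup G) := mem_sylow_of_orderOf Z ho (pow_mem (hCN5 hc) k)
      have hzmem : (z : G) ∈ zpowers (c ^ k) := by
        rw [Subgroup.eq_of_le_of_card_ge (zpowers_le.2 hmem) (by rw [hZcard, Nat.card_zpowers, ho])]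
        exact hZ (mem_zpowers _)
      obtain ⟨i, -, hi⟩ := exists_pow_lt hzmem
      exact hfive R (by rw [← hi, ← pow_mul]; exact hfix _)
    · have h7 : orderOf c ∣ 7 := (Nat.Coprime.dvd_of_dvd_mul_left
        ((Nat.Prime.coprime_iff_not_dvd (by norm_num)).2 h5).symm (show orderOf c ∣ 5 * 7 from hord))
      have hcP : c ∈ (P : Subgroup G) := mem_sylow_of_orderOf P (((Nat.dvd_prime (by norm_num)).1 h7).resolve_left
        fun e => hc1 (orderOf_eq_one_iff.1 e)) (hCN hc)
      exact sylow_fixed_eq hP hcP hc1 hR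
  -- an involution of N
  obtain ⟨t, ht⟩ := exists_prime_orderOf_dvd_card' (G := N) 2 (by rw [hN]; norm_num)
  have ht2 : orderOf (t : G) = 2 := by rw [Subgroup.orderOf_coe]; exact ht
  have htC : (t : G) ∉ C := fun e => by
    have := hC ▸ orderOf_dvd_natCard (⟨t, e⟩ : C)
    rw [Subgroup.orderOf_mk, ht2] at this
    omega
  -- t commutes with no nontrivial element of C
  have hfree : ∀ c ∈ C, c * t = t * c → c = 1 := by
    intro c hc hct
    by_contra hc1
    -- otherwise t centralises P or Z
    have hord : orderOf c ∣ 35 := by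
      rw [← hC, ← Subgroup.orderOf_mk c hc]; exact orderOf_dvd_natCard _
    by_cases h7 : 7 ∣ orderOf c
    · obtain ⟨k, hk⟩ := h7
      have hk0 : k ≠ 0 := fun e => by rw [e] at hk; exact absurd hk (orderOf_pos c).ne'
      have ho : orderOf (c ^ k) = 7 := by
        rw [orderOf_pow' c hk0, hk, Nat.gcd_mul_left_left, Nat.mul_div_cancel _ (Nat.pos_of_ne_zero hk0)]
      have hcP : c ^ k ∈ (P : Subgroup G) := mem_sylow_of_orderOf P ho (pow_mem (hCN hc) k)
      have hPeq : (P : Subgroup G) = zpowers (c ^ k) :=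
        (Subgroup.eq_of_le_of_card_ge (zpowers_le.2 hcP) (by rw [hP, Nat.card_zpowers, ho])).symm
      refine htC ?_
      rw [hCdef, hPeq, zpowers_eq_closure, centralizer_closure]
      exact mem_centralizer_singleton_iff.2 (Commute.pow_left (show Commute c t from hct) k).symm
    · have h5 : orderOf c = 5 := by
        have : orderOf c ∣ 5 := (Nat.Coprime.dvd_of_dvd_mul_left
          ((Nat.Prime.coprime_iff_not_dvd (by norm_num)).2 h7).symm (show orderOf c ∣ 7 * 5 from hord))
        rcases (Nat.dvd_prime (by norm_num)).1 this with e | e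
        · exact absurd (orderOf_eq_one_iff.1 e) hc1
        · exact e
      -- then Z is central in its normaliser
      have hcZ : c ∈ (Z : Subgroup G) := mem_sylow_of_orderOf Z h5 (hCN5 hc)
      have hZc' : (Z : Subgroup G) = zpowers c :=
        (Subgroup.eq_of_le_of_card_ge (zpowers_le.2 hcZ) (by rw [hZcard, Nat.card_zpowers, h5])).symm
      set C5 := centralizer ((Z : Subgroup G) : Set G) with hC5
      have hC5C : C ≤ C5 := by
        intro d hd
        rw [hC5, ← hZeq, zpowers_eq_closure, centralizer_closure]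
        refine mem_centralizer_singleton_iff.2 ?_
        have hdN5 := hCN5 hd
        have hrel := relIndex_centralizer_dvd (p := 5) hZcard (T := zpowers d) (zpowers_le.2 hdN5)
        have : orderOf d ∣ 35 := by
          rw [← hC, ← Subgroup.orderOf_mk d hd]; exact orderOf_dvd_natCard _
        have hdC : d ∈ centralizer ((Z : Subgroup G) : Set G) :=
          mem_centralizer_of_coprime hZcard hdN5 (Nat.Coprime.coprime_dvd_left this (by norm_num))
        exact (mem_centralizer_iff.1 hdC z (hZ (mem_zpowers _))).symm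
      have htC5 : (t : G) ∈ C5 := by
        rw [hC5, hZc', zpowers_eq_closure, centralizer_closure]
        exact mem_centralizer_singleton_iff.2 hct.symm
      have hle : C5 ≤ N5 := centralizer_le_normalizer _
      refine not_normalizer_le_centralizer h.nc hd5 Z (le_of_eq (Subgroup.eq_of_le_of_card_ge hle ?_).symm)
      have h35 : 35 ∣ Nat.card C5 := hC ▸ Subgroup.card_dvd_of_le hC5C
      have h2 : 2 ∣ Nat.card C5 := by
        rw [← ht2, ← Subgroup.orderOf_mk (t : G) htC5]; exact orderOf_dvd_natCard _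
      have : 0 < Nat.card C5 := Nat.card_pos
      rw [hN5]
      omega
  -- t fixes exactly two Sylow subgroups
  have htP : (t : G) • P = P := Sylow.smul_eq_iff_mem_normalizer.2 t.2
  haveI := Fintype.ofFinite (Sylow 7 G)
  obtain ⟨R0, hR0, hR0P⟩ : ∃ R : Sylow 7 G, (t : G) • R = R ∧ R ≠ P := by
    set σ := MulAction.toPermHom G (Sylow 7 G) (t : G) with hσ
    have hσ2 : σ ^ 2 = 1 := by rw [hσ, ← map_pow, ← ht2, pow_orderOf_eq_one, map_one]
    by_contra hno
    push Not at hno
    have hs : σ.support = Finset.univ.erase P := by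
      ext R
      rw [Equiv.Perm.mem_support, Finset.mem_erase]
      exact ⟨fun hne => ⟨fun e => hne (e ▸ htP), Finset.mem_univ _⟩, fun hne e => hne.1 (hno R e)⟩
    have heven : 2 ∣ σ.support.card := by
      have hne : σ ≠ 1 := fun e => by
        rw [e, Equiv.Perm.support_one] at hs
        have h1 := congrArg Finset.card hs
        rw [Finset.card_empty, Finset.card_erase_of_mem (Finset.mem_univ P), Finset.card_univ,
          ← Nat.card_eq_fintype_card, hn] at h1
        omega
      obtain ⟨k, hk⟩ := Equiv.Perm.cycleType_prime_order (σ := σ) (by rw [orderOf_eq_prime hσ2 hne]; norm_num)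
      rw [← σ.sum_cycleType, hk, Multiset.sum_replicate, orderOf_eq_prime hσ2 hne, smul_eq_mul]
      exact dvd_mul_left 2 _
    rw [hs, Finset.card_erase_of_mem (Finset.mem_univ P), Finset.card_univ, ← Nat.card_eq_fintype_card, hn] at heven
    omega
  -- C is transitive on the others
  have htrans : ∀ R : Sylow 7 G, R ≠ P → ∃ c ∈ C, c • R0 = R := by
    let f : C → {R : Sylow 7 G // R ≠ P} := fun c => ⟨(c : G) • R0, fun e => hR0P (by
      have h1 : R0 = (c : G)⁻¹ • P := eq_inv_smul_iff.2 e
      rw [h1]
      exact Sylow.smul_eq_iff_mem_normalizer.2 (inv_mem (hCN c.2)))⟩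
    have hf : Function.Injective f := fun a b e => by
      by_contra hab
      have e1 : (a : G) • R0 = (b : G) • R0 := congrArg Subtype.val e
      exact hR0P (hsemi ((b : G)⁻¹ * a) (mul_mem (inv_mem b.2) a.2) (fun e2 => hab (Subtype.ext (inv_mul_eq_one.1 e2).symm))
        R0 (by rw [mul_smul, e1, inv_smul_smul]))
    have hcard : Nat.card {R : Sylow 7 G // R ≠ P} = Nat.card C := by
      rw [Nat.card_eq_fintype_card, Fintype.card_subtype_compl, Fintype.card_subtype_eq, ← Nat.card_eq_fintype_card, hn, hC]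
    intro R hR
    obtain ⟨c, hc⟩ := (hf.bijective_of_nat_card_le hcard.le).2 ⟨R, hR⟩
    exact ⟨c, c.2, congrArg Subtype.val hc⟩
  have honly : ∀ R : Sylow 7 G, (t : G) • R = R → R = P ∨ R = R0 := by
    intro R hR
    by_cases hRP : R = P
    · exact Or.inl hRP
    obtain ⟨c, hc, rfl⟩ := htrans R hRP
    refine Or.inr ?_
    -- (c⁻¹ t c t⁻¹) fixes R0 and lies in C
    have hd : c⁻¹ * ((t : G) * c * (t : G)⁻¹) ∈ C := by
      refine mul_mem (inv_mem hc) ?_
      rw [hCdef, mem_centralizer_iff]
      intro x hx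
      have h1 := mem_centralizer_iff.1 (hCdef ▸ hc) _ (conj_mem_of_normalizer (inv_mem t.2) hx)
      rw [inv_inv] at h1
      generalize (t : G) = s at h1 ⊢
      calc x * (s * c * s⁻¹) = s * (s⁻¹ * x * s * c) * s⁻¹ := by group
        _ = s * (c * (s⁻¹ * x * s)) * s⁻¹ := by rw [h1]
        _ = s * c * s⁻¹ * x := by group
    have hfix : (c⁻¹ * ((t : G) * c * (t : G)⁻¹)) • R0 = R0 := by
      rw [mul_smul, mul_smul, inv_smul_eq_iff.2 hR0.symm, mul_smul, hR, inv_smul_smul]
    have h1 : c⁻¹ * ((t : G) * c * (t : G)⁻¹) = 1 := by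
      by_contra hne
      exact hR0P (hsemi _ hd hne R0 hfix)
    have h2 : c = 1 := hfree c hc (eq_mul_inv_iff_mul_eq.1 (inv_mul_eq_one.1 h1))
    rw [h2, one_smul]
  -- hence the centraliser has order at most four
  set T := centralizer ({(t : G)} : Set G) with hT
  have hmap : ∀ g ∈ T, g • P = P ∨ g • P = R0 := by
    intro g hg
    refine honly _ ?_
    rw [← mul_smul, ← mem_centralizer_singleton_iff.1 hg, mul_smul, htP]
  have hst : Nat.card ↥(T ⊓ N) ≤ 2 := by
    have hinf : C ⊓ (T ⊓ N) = ⊥ := by
      rw [Subgroup.eq_bot_iff_forall]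
      intro c hc
      exact hfree c hc.1 (mem_centralizer_singleton_iff.1 hc.2.1)
    have h1 : C.relIndex (T ⊓ N) ≤ C.relIndex N := by
      refine Nat.le_of_dvd (Nat.pos_of_ne_zero ?_) ?_
      · exact Subgroup.index_ne_zero_of_finite
      · haveI : (C.subgroupOf N).Normal := by
          rw [hCdef]
          exact (normalizerMonoidHom_ker (P : Subgroup G)) ▸ (MonoidHom.normal_ker _)
        rw [Subgroup.relIndex, Subgroup.relIndex, show (C.subgroupOf (T ⊓ N)) = (C.subgroupOf N).comap (Subgroup.inclusion inf_le_right) from rfl,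
          Subgroup.index_comap]
        exact Subgroup.relIndex_dvd_index_of_normal _ _
    rw [← Subgroup.relIndex_bot_left, ← hinf, Subgroup.inf_relIndex_right]
    refine h1.trans ?_
    have : 0 < C.relIndex N := Nat.pos_of_ne_zero Subgroup.index_ne_zero_of_finite
    have := hmul
    rw [hC] at this
    omega
  have h8 : 8 ≤ Nat.card T := Nat.le_of_dvd Nat.card_pos (h.eight_dvd ht2)
  have h4 : Nat.card T ≤ 4 := by
    have horb : Nat.card (MulAction.orbit T P) ≤ 2 := by
      rw [Nat.card_coe_set_eq]
      refine (Set.ncard_le_ncard (t := {P, R0}) ?_).trans (by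
        rw [Set.ncard_pair hR0P.symm])
      rintro _ ⟨g, rfl⟩
      exact hmap g g.2
    have hstab : MulAction.stabilizer T P = (T ⊓ N).subgroupOf T := by
      ext g
      rw [MulAction.mem_stabilizer_iff, mem_subgroupOf, Subgroup.mem_inf]
      exact ⟨fun e => ⟨g.2, Sylow.smul_eq_iff_mem_normalizer.1 e⟩, fun e => Sylow.smul_eq_iff_mem_normalizer.2 e.2⟩
    have hm := Subgroup.card_mul_index (MulAction.stabilizer T P)
    rw [MulAction.index_stabilizer, hstab, Nat.card_congr (subgroupOfEquivOfLe inf_le_left).toEquiv,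
      ← Nat.card_coe_set_eq] at hm
    rw [← hm]
    exact Nat.mul_le_mul hst horb
  omega

theorem card_sylow_seven (h : Hyp G) [Fact (Nat.Prime 7)] : Nat.card (Sylow 7 G) = 120 := by
  classical
  obtain ⟨P⟩ : Nonempty (Sylow 7 G) := Sylow.nonempty
  have hd7 : 7 ∣ Nat.card G := by rw [h.card]; norm_num
  have hP : Nat.card (P : Subgroup G) = 7 :=
    card_sylow_of_factor (a := 1) (m := 360) P (by rw [h.card]; norm_num) (by norm_num)
  obtain ⟨hd, hmod⟩ := sylow_facts (a := 1) (m := 360) P (by rw [h.card]; norm_num) (by norm_num)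
  set N := normalizer ((P : Subgroup G) : Set G) with hNdef
  set C := centralizer ((P : Subgroup G) : Set G) with hCdef
  have hCN : C ≤ N := centralizer_le_normalizer _
  have hmul : Nat.card C * C.relIndex N = Nat.card N := by
    rw [← Subgroup.card_mul_index (C.subgroupOf N), Nat.card_congr (subgroupOfEquivOfLe hCN).toEquiv]
    rfl
  have h6 : C.relIndex N ∣ 7 - 1 := relIndex_centralizer_dvd hP le_rfl
  have hm := card_normalizer_mul P
  rw [← hNdef, h.card] at hm
  have hj := Nat.le_of_dvd (by norm_num) h6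
  rcases sylow_counts_seven _ (Nat.le_of_dvd (by norm_num) hd) hd hmod with e | e | e | e | e
  · exact absurd e (card_sylow_ne_one h.nc hd7)
  · exfalso
    rw [e] at hm
    have hN : Nat.card N = 315 := by omega
    have h5 : 5 ∣ Nat.card C := by
      have h5' : 5 ∣ Nat.card C * C.relIndex N := by rw [hmul, hN]; norm_num
      rcases (Nat.Prime.dvd_mul (by norm_num)).1 h5' with h' | h'
      · exact h'
      · exact absurd (h'.trans h6) (by norm_num)
    haveI : Fact (Nat.Prime 5) := ⟨by norm_num⟩
    obtain ⟨g, hg⟩ := exists_prime_orderOf_dvd_card' (G := C) 5 h5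
    exact not_prime_centralizer h.nc hd7 hP (r := 5) (by norm_num) (by norm_num) (by omega)
      (g := (g : G)) (by rw [Subgroup.orderOf_coe]; exact hg) g.2
  · exfalso
    rw [e] at hm
    have hN : Nat.card N = 168 := by omega
    have h2 : 2 ∣ Nat.card C := by
      have h8' : 2 ^ 3 ∣ Nat.card C * C.relIndex N := by rw [hmul, hN]; norm_num
      by_contra hodd
      have h4 := (Nat.Coprime.pow_left 3 ((Nat.Prime.coprime_iff_not_dvd Nat.prime_two).2 hodd)).dvd_of_dvd_mul_left h8'
      exact absurd (h4.trans h6) (by norm_num)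
    haveI := Fintype.ofFinite (Sylow 7 G)
    obtain ⟨g, hg⟩ := exists_prime_orderOf_dvd_card' (G := C) 2 h2
    obtain ⟨j, hj, -, hlt, hev⟩ := support_of_prime_centralizer h.nc hd7 hP (r := 2) (by norm_num) (by norm_num)
      (g := (g : G)) (by rw [Subgroup.orderOf_coe]; exact hg) g.2
    obtain ⟨i, rfl⟩ := hev rfl
    omega
  · exact absurd e h.card_sylow_seven_ne_thirtysix
  · exact e

/-- An element of order seven generates its own centraliser. -/
theorem card_centralizer_seven (h : Hyp G) {x : G} (hx : orderOf x = 7) :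
    Nat.card (centralizer ({x} : Set G)) = 7 := by
  haveI : Fact (Nat.Prime 7) := ⟨by norm_num⟩
  have hc : Nat.card (zpowers x) = 7 := by rw [Nat.card_zpowers, hx]
  obtain ⟨P, hxP⟩ := (IsPGroup.of_card (G := zpowers x) (n := 1) (by rw [hc]; norm_num)).exists_le_sylow (p := 7)
  have hP : Nat.card (P : Subgroup G) = 7 :=
    card_sylow_of_factor (a := 1) (m := 360) P (by rw [h.card]; norm_num) (by norm_num)
  have hd7 : 7 ∣ Nat.card G := by rw [h.card]; norm_num
  have he : zpowers x = (P : Subgroup G) := Subgroup.eq_of_le_of_card_ge hxP (by rw [hc, hP])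
  have hC : centralizer ({x} : Set G) = centralizer ((P : Subgroup G) : Set G) := by
    rw [← he, zpowers_eq_closure, centralizer_closure]
  rw [hC]
  set C := centralizer ((P : Subgroup G) : Set G) with hCdef
  set N := normalizer ((P : Subgroup G) : Set G) with hNdef
  have hCN : C ≤ N := centralizer_le_normalizer _
  have hN : Nat.card N = 21 := by
    have hm := card_normalizer_mul P
    rw [← hNdef, h.card_sylow_seven, h.card] at hm
    omega
  have hPC : (P : Subgroup G) ≤ C := by
    rw [← hC, ← he, zpowers_le]; exact mem_centralizer_singleton_iff.2 rfl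
  obtain ⟨k, hk⟩ := hP ▸ Subgroup.card_dvd_of_le hPC
  have hle : 7 * k ∣ 21 := hk ▸ hN ▸ Subgroup.card_dvd_of_le hCN
  have hk3 : k ∣ 3 := Nat.dvd_of_mul_dvd_mul_left (by norm_num : 0 < 7) (show 7 * k ∣ 7 * 3 from hle)
  rcases (Nat.dvd_prime Nat.prime_three).1 hk3 with e | e
  · rw [hk, e]
  · exact absurd (le_of_eq (Subgroup.eq_of_le_of_card_ge hCN (by rw [hN, hk, e])).symm)
      (not_normalizer_le_centralizer h.nc hd7 P)

/-- No element outside its cyclic group commutes with an element of order seven. -/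
theorem not_seven_dvd_centralizer (h : Hyp G) {u : G} (hu : orderOf u ∈ ({2, 3, 5} : Set ℕ)) :
    ¬ 7 ∣ Nat.card (centralizer ({u} : Set G)) := by
  intro hd
  haveI : Fact (Nat.Prime 7) := ⟨by norm_num⟩
  obtain ⟨x, hx⟩ := exists_prime_orderOf_dvd_card' (G := centralizer ({u} : Set G)) 7 hd
  have hx7 : orderOf (x : G) = 7 := by rw [Subgroup.orderOf_coe]; exact hx
  have hm : u ∈ centralizer ({(x : G)} : Set G) :=
    mem_centralizer_singleton_iff.2 (mem_centralizer_singleton_iff.1 x.2).symm
  have hdv := orderOf_dvd_natCard (⟨u, hm⟩ : centralizer ({(x : G)} : Set G))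
  rw [Subgroup.orderOf_mk, h.card_centralizer_seven hx7] at hdv
  rcases hu with e | e | e <;> rw [e] at hdv <;> revert hdv <;> norm_num

end Hyp

end Cfsg.Lib.AltSeven
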