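import Cfsg.Agent.Small.AltSeven.Seven

/-!
Small tools: elements of prime order normalising a subgroup of order nine, counting, and fixed
elements of an involution commuting with a transitive action on three letters.
-/

set_option autoImplicit false
set_option linter.unusedSectionVars false
set_option linter.style.haveILetI false

namespace Cfsg.Lib.AltSeven

open Subgroup Cfsg.Lib.Small

variable {G : Type*} [Group G] [Finite G]

/-- An element of order five or seven normalising a subgroup of order nine centralises it. -/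
theorem centralizes_nine {P : Subgroup G} (hP : Nat.card P = 9) {g : G} {q : ℕ} (hq : q = 5 ∨ q = 7)
    (hg : orderOf g = q) (hn : g ∈ normalizer (P : Set G)) : g ∈ centralizer (P : Set G) := by
  classical
  haveI : Fact q.Prime := ⟨by rcases hq with rfl | rfl <;> norm_num⟩
  haveI := Fintype.ofFinite P
  let σ : Function.End P := fun x => ⟨g * x * g⁻¹, (mem_normalizer_iff.1 hn x).1 x.2⟩
  have hpow : ∀ (n : ℕ) (x : P), ((σ ^ n) x : G) = g ^ n * (x : G) * (g ^ n)⁻¹ := by
    intro n
    induction n with
    | zero => intro x; simp; rfl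
    | succ n ih =>
      intro x
      rw [pow_succ' σ]
      show g * ((σ ^ n) x : G) * g⁻¹ = _
      rw [ih, pow_succ']
      group
  have hσ : σ ^ q ^ 1 = 1 := by
    funext x
    refine Subtype.ext ?_
    rw [hpow, pow_one, ← hg, pow_orderOf_eq_one]
    simp; rfl
  have hmod := Equiv.Perm.card_fixedPoints_modEq hσ
  have hfix : Fintype.card σ.fixedPoints = Nat.card ↥(P ⊓ centralizer ({g} : Set G)) := by
    rw [← Nat.card_eq_fintype_card]
    refine Nat.card_congr
      { toFun := fun x => ⟨(x.1 : G), x.1.2, mem_centralizer_singleton_iff.2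
          (mul_inv_eq_iff_eq_mul.1 (congrArg Subtype.val x.2)).symm⟩
        invFun := fun x => ⟨⟨x.1, x.2.1⟩, Subtype.ext (mul_inv_eq_iff_eq_mul.2
          (mem_centralizer_singleton_iff.1 x.2.2).symm)⟩
        left_inv := fun _ => rfl
        right_inv := fun _ => rfl }
  rw [hfix, ← Nat.card_eq_fintype_card, hP] at hmod
  have hd : Nat.card ↥(P ⊓ centralizer ({g} : Set G)) ∣ 3 ^ 2 :=
    (hP ▸ Subgroup.card_dvd_of_le (inf_le_left : P ⊓ centralizer ({g} : Set G) ≤ P) : _ ∣ 9)
  obtain ⟨i, hi, he⟩ := (Nat.dvd_prime_pow Nat.prime_three).1 hd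
  have h9 : Nat.card ↥(P ⊓ centralizer ({g} : Set G)) = 9 := by
    rw [he] at hmod ⊢
    interval_cases i
    · rcases hq with rfl | rfl <;> revert hmod <;> decide
    · rcases hq with rfl | rfl <;> revert hmod <;> decide
    · rfl
  have heq := Subgroup.eq_of_le_of_card_ge (inf_le_left : P ⊓ centralizer ({g} : Set G) ≤ P) (by rw [h9, hP])
  exact mem_centralizer_iff.2 fun x hx =>
    mem_centralizer_singleton_iff.1 (heq.ge hx).2

/-- The non-identity elements of the Sylow subgroups of prime order. -/
theorem card_orderOf_prime_ge {p : ℕ} [hp : Fact p.Prime]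
    (hP : ∀ P : Sylow p G, Nat.card (P : Subgroup G) = p) :
    Nat.card (Sylow p G) * (p - 1) ≤ Nat.card {g : G // orderOf g = p} := by
  classical
  have hord : ∀ (P : Sylow p G) (x : (P : Subgroup G)), x ≠ 1 → orderOf (x : G) = p := by
    intro P x hx
    rw [Subgroup.orderOf_coe]
    exact ((Nat.dvd_prime hp.out).1 ((orderOf_dvd_natCard x).trans (hP P).dvd)).resolve_left
      fun e => hx (orderOf_eq_one_iff.1 e)
  let f : (Σ P : Sylow p G, {x : (P : Subgroup G) // x ≠ 1}) → {g : G // orderOf g = p} :=
    fun z => ⟨(z.2.1 : G), hord z.1 z.2.1 z.2.2⟩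
  have hf : Function.Injective f := by
    rintro ⟨P, x⟩ ⟨Q, y⟩ e
    have e' : (x.1 : G) = (y.1 : G) := congrArg Subtype.val e
    have hx := hord P x.1 x.2
    have h1 : zpowers (x.1 : G) = (P : Subgroup G) := Subgroup.eq_of_le_of_card_ge (zpowers_le.2 x.1.2)
      (by rw [hP P, Nat.card_zpowers, hx])
    have h2 : zpowers (x.1 : G) = (Q : Subgroup G) := Subgroup.eq_of_le_of_card_ge
      (zpowers_le.2 (e' ▸ y.1.2)) (by rw [hP Q, Nat.card_zpowers, hx])
    obtain rfl : P = Q := Sylow.ext (h1.symm.trans h2)
    exact Sigma.ext rfl (heq_of_eq (Subtype.ext (Subtype.ext e')))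
  haveI := Fintype.ofFinite (Sylow p G)
  refine le_trans (le_of_eq ?_) (Nat.card_le_card_of_injective f hf)
  rw [Nat.card_sigma]
  have : ∀ P : Sylow p G, Nat.card {x : (P : Subgroup G) // x ≠ 1} = p - 1 := fun P => by
    haveI := Fintype.ofFinite (P : Subgroup G)
    rw [Nat.card_eq_fintype_card, Fintype.card_subtype_compl, Fintype.card_subtype_eq,
      ← Nat.card_eq_fintype_card, hP P]
  rw [Finset.sum_congr rfl fun P _ => this P, Finset.sum_const, Finset.card_univ, smul_eq_mul,
    ← Nat.card_eq_fintype_card]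

/-- An involution in `D` acting on three letters and commuting with a fixed point free three-cycle is trivial:
three pairwise distinct elements permuted by `k`. -/
theorem fix_three {α : Type*} {σ τ : α → α} {a : α} (h3 : ∀ x, x = a ∨ x = τ a ∨ x = τ (τ a))
    (h3c : τ (τ (τ a)) = a) (hσ : ∀ x, σ (σ x) = x) (hc : ∀ x, σ (τ x) = τ (σ x)) : ∀ x, σ x = x := by
  have ha : σ a = a := by
    rcases h3 (σ a) with e | e | e
    · exact e
    · -- then `a = τ (τ a)`
      have h2 : a = τ (τ a) := by
        conv_lhs => rw [← hσ a, e, hc a, e]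
      rw [e]
      calc τ a = τ (τ (τ a)) := by rw [← h2]
        _ = a := h3c
    · have h2 : a = τ (τ (τ (τ a))) := by
        conv_lhs => rw [← hσ a, e, hc (τ a), hc a, e]
      rw [h3c] at h2
      rw [e, ← h2, ← h2]
  intro x
  rcases h3 x with e | e | e <;> subst e
  · exact ha
  · rw [hc, ha]
  · rw [hc, hc, ha]

end Cfsg.Lib.AltSeven
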